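import Cfsg.Agent.H1.EqConj.Extended
import Cfsg.Agent.H39.SmallIdent
import Cfsg.Agent.H37.SmallIso
import Cfsg.Agent.H37.Card
import Cfsg.Agent.S0813
import Cfsg.Agent.S0265

/-!
Groups with conjugate same-order subgroups, no normal subgroup of odd order and elementary abelian
Sylow `2`-subgroups.
-/

set_option autoImplicit false
set_option linter.unusedSectionVars false
set_option linter.style.haveILetI false

namespace H1.EqConj

open Subgroup

universe u

/-- The groups which occur for an elementary abelian Sylow `2`-subgroup of order at least four. -/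
def ElemList (G : Type u) [Group G] : Prop :=
  Nonempty (G ≃* Cfsg.affineGroup (GaloisField 2 3)) ∨
  Nonempty (G ≃* Cfsg.semiaffineGroup (GaloisField 2 3)) ∨
  Nonempty (G ≃* Cfsg.semiaffineGroup (GaloisField 2 5)) ∨
  Nonempty (G ≃* Matrix.ProjectiveSpecialLinearGroup (Fin 2) (GaloisField 2 3)) ∨
  Nonempty (G ≃* MulAut (Matrix.ProjectiveSpecialLinearGroup (Fin 2) (GaloisField 2 5))) ∨
  Nonempty (G ≃* alternatingGroup (Fin 4)) ∨
  Nonempty (G ≃* alternatingGroup (Fin 5))

variable {G : Type u} [Group G] [Finite G] {S : Sylow 2 G}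

/-- The order of `PSL(2, q)`, `q` even. -/
theorem card_PSL_two_even {F : Type} [Field F] [Fintype F] {q : ℕ} (hq : Fintype.card F = q)
    (hev : Even q) :
    Nat.card (Matrix.ProjectiveSpecialLinearGroup (Fin 2) F) = q * (q ^ 2 - 1) := by
  have h := H37.card_PSL_two (F := F)
  have h1 : Nat.gcd 2 (q - 1) = 1 := by
    have hq0 : 0 < q := hq ▸ Fintype.card_pos
    obtain ⟨k, hk⟩ := hev
    exact (Nat.prime_two.coprime_iff_not_dvd).2 (by omega)
  rwa [Nat.card_eq_fintype_card (α := F), hq, h1, one_mul] at h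

theorem iso_PSL_galois {n : ℕ} (hn : n ≠ 0) {F : Type} [Field F] [Fintype F]
    (hF : Fintype.card F = 2 ^ n) :
    Nonempty (Matrix.ProjectiveSpecialLinearGroup (Fin 2) F ≃*
      Matrix.ProjectiveSpecialLinearGroup (Fin 2) (GaloisField 2 n)) := by
  haveI : Fintype (GaloisField 2 n) := Fintype.ofFinite _
  refine ⟨H37.pslCongr (FiniteField.ringEquivOfCardEq ?_)⟩
  rw [hF, ← Nat.card_eq_fintype_card, GaloisField.card 2 n hn]

namespace Elem

variable (h : Elem S)

include h

/-- The case `|N(S) : C(S)| = P`. -/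
theorem exists_iso_PSL {P : ℕ} (hP : P.Prime) (h3 : 3 ≤ P)
    (hS : Nat.card (S : Subgroup G) = P + 1) (hN : Nat.card (N S) = P * Nat.card (C S))
    (hnn : N S ≠ ⊤) (hO : Cfsg.oddCore G = ⊥) :
    ∃ (F : Type) (_ : Field F) (_ : Fintype F), Fintype.card F = P + 1 ∧
      Nonempty (G ≃* Matrix.ProjectiveSpecialLinearGroup (Fin 2) F) := by
  refine exists_iso_PSL_of_hyp (S := (S : Subgroup G))
    { prime := hP, three := h3, card_S := hS, sq := h.sq, cent := ?_, card_N := hN,
      odd_index := Nat.not_even_iff_odd.1 fun hev => S.not_dvd_index (even_iff_two_dvd.1 hev),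
      not_normal := hnn, disjoint := h.conj.realDisjoint } hO
  intro t ht ht1 g hg
  have h1 := h.card_stabilizer_mul ht ht1 le_rfl
    (fun t' ht' ht'1 => h.transitive ht ht1 ht' ht'1)
  rw [hS, hN, Nat.add_sub_cancel] at h1
  have h2 := Nat.eq_of_mul_eq_mul_left hP.pos h1
  have h3 : C S = N S ⊓ centralizer {t} := eq_of_le_of_card_ge (h.C_inf_le ht) h2.le
  show g ∈ C S
  rw [h3]
  exact ⟨h.mem_N_of_commute ht ht1 hg, mem_centralizer_singleton_iff.2 hg⟩

theorem core_bot_of_normal (hO : Cfsg.oddCore G = ⊥) (htop : N S = ⊤) :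
    Cfsg.pPrimeCore 2 (N S) = ⊥ := by
  haveI := H1.pPrimeCore_normal' 2 (N S)
  set K := (Cfsg.pPrimeCore 2 (N S)).map (N S).subtype with hK
  haveI : K.Normal := by
    refine ⟨fun x hx g => ?_⟩
    obtain ⟨k, hk, rfl⟩ := hx
    exact ⟨⟨g, htop ▸ mem_top g⟩ * k * ⟨g, htop ▸ mem_top g⟩⁻¹,
      Normal.conj_mem inferInstance k hk _, rfl⟩
  have h1 := normal_odd_eq_bot hO (N := K) (by
    rw [hK, card_map_of_injective (N S).subtype_injective]
    exact Nat.coprime_two_right.1 (H1.card_pPrimeCore_coprime 2 _))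
  exact (map_eq_bot_iff_of_injective _ (N S).subtype_injective).1 h1

/-- The case of a normal Sylow subgroup. -/
theorem iso_quotient_of_normal (hO : Cfsg.oddCore G = ⊥) (htop : N S = ⊤) :
    Nonempty (G ≃* N S ⧸ Cfsg.pPrimeCore 2 (N S)) :=
  ⟨((topEquiv.symm.trans (MulEquiv.subgroupCongr htop.symm)).trans
    (QuotientGroup.quotientBot (G := N S)).symm).trans
    (QuotientGroup.quotientMulEquivOfEq (h.core_bot_of_normal hO htop).symm)⟩

theorem four (h4 : Nat.card (S : Subgroup G) = 4) (hO : Cfsg.oddCore G = ⊥) :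
    Nonempty (G ≃* alternatingGroup (Fin 4)) ∨ Nonempty (G ≃* alternatingGroup (Fin 5)) := by
  have hN := h.card_N_four h4
  by_cases htop : N S = ⊤
  · refine Or.inl ?_
    have hcore := h.core_bot_of_normal hO htop
    have h12 : Nat.card G = 12 := by
      rw [← card_top, ← htop, hN, h.card_C, hcore, card_bot, h4]
    haveI : Fact (Nat.Prime 3) := ⟨Nat.prime_three⟩
    obtain ⟨x, hx⟩ := exists_prime_orderOf_dvd_card' (G := G) 3 (by rw [h12]; norm_num)
    refine H39.nonempty_mulEquiv_A4 (H := zpowers x) h12 (by rw [Nat.card_zpowers, hx]) fun hn => ?_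
    haveI := hn
    have h1 := normal_odd_eq_bot hO (N := zpowers x) (by rw [Nat.card_zpowers, hx]; decide)
    rw [zpowers_eq_bot] at h1
    rw [h1, orderOf_one] at hx
    omega
  · obtain ⟨F, i1, i2, hF, ⟨e⟩⟩ := h.exists_iso_PSL Nat.prime_three le_rfl h4 hN htop hO
    obtain ⟨e'⟩ := H37.PSL2_four_mulEquiv_alternating (F := F)
      (by rw [Nat.card_eq_fintype_card, hF])
    exact Or.inr ⟨e.trans e'⟩

theorem not_three_three (hS : Nat.card (S : Subgroup G) = 8)
    (hN : Nat.card (N S) = 7 * 3 * Nat.card (C S)) (hnn : N S ≠ ⊤)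
    (hO : Cfsg.oddCore G = ⊥) : False := by
  haveI : Fact (Nat.Prime 3) := ⟨Nat.prime_three⟩
  have hx : Ext S 7 3 :=
    { toElem := h, prime := by norm_num, three := by norm_num, card_S := hS,
      bprime := Nat.prime_three, btwo := by norm_num, bP := by norm_num, card_N := hN,
      fix := fun j _ h2 h3 => by
        rcases lt_or_ge j 3 with hj | hj
        · interval_cases j <;> simp_all (config := { decide := true }) [Nat.ModEq]
        · have h4 : 2 ^ 3 ≤ 2 ^ j := Nat.pow_le_pow_right (by norm_num) hj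
          omega
      not_normal := hnn, core := hO }
  obtain ⟨M, B, -, hcompl, -, -, F, i1, i2, hF, ⟨e⟩⟩ := hx.exists_normal_PSL
  have h1 := B.not_dvd_index
  rw [hcompl.index_eq_card, Nat.card_congr e.toEquiv,
    card_PSL_two_even hF (by norm_num)] at h1
  exact h1 (by norm_num)

theorem five_five (hS : Nat.card (S : Subgroup G) = 32)
    (hN : Nat.card (N S) = 31 * 5 * Nat.card (C S)) (hnn : N S ≠ ⊤)
    (hO : Cfsg.oddCore G = ⊥) :
    Nonempty (G ≃* MulAut (Matrix.ProjectiveSpecialLinearGroup (Fin 2) (GaloisField 2 5))) := by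
  haveI : Fact (Nat.Prime 5) := ⟨by norm_num⟩
  haveI : Fact (Nat.Prime 2) := ⟨Nat.prime_two⟩
  have hx : Ext S 31 5 :=
    { toElem := h, prime := by norm_num, three := by norm_num, card_S := hS,
      bprime := by norm_num, btwo := by norm_num, bP := by norm_num, card_N := hN,
      fix := fun j _ h2 h3 => by
        rcases lt_or_ge j 5 with hj | hj
        · interval_cases j <;> simp_all (config := { decide := true }) [Nat.ModEq]
        · have h4 : 2 ^ 5 ≤ 2 ^ j := Nat.pow_le_pow_right (by norm_num) hj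
          omega
      not_normal := hnn, core := hO }
  obtain ⟨M, B, hMn, hcompl, hcent, -, F, i1, i2, hF, ⟨e⟩⟩ := hx.exists_normal_PSL
  obtain ⟨e'⟩ := iso_PSL_galois (n := 5) (by norm_num) (F := F) (by rw [hF]; norm_num)
  let φ : G →* MulAut (Matrix.ProjectiveSpecialLinearGroup (Fin 2) (GaloisField 2 5)) :=
    (MulAut.congr (e.trans e')).toMonoidHom.comp (MulAut.conjNormal (H := M))
  have hφ : Function.Injective φ := by
    refine (MulAut.congr (e.trans e')).injective.comp ?_
    rw [← MonoidHom.ker_eq_bot_iff, eq_bot_iff]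
    refine le_trans (fun g hg => ?_) hcent.le
    rw [MonoidHom.mem_ker] at hg
    refine mem_centralizer_iff.2 fun m hm => ?_
    have h1 : g * m * g⁻¹ = m := by
      have := MulAut.conjNormal_apply (H := M) g ⟨m, hm⟩
      rw [hg] at this
      exact this.symm
    exact (mul_inv_eq_iff_eq_mul.1 h1).symm
  haveI : Fintype (GaloisField 2 5) := Fintype.ofFinite _
  have hG32 : Fintype.card (GaloisField 2 5) = 2 ^ 5 := by
    rw [← Nat.card_eq_fintype_card, GaloisField.card 2 5 (by norm_num)]
  have hPSL := card_PSL_two_even hG32 (by norm_num)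
  have haut : Nat.card (MulAut (Matrix.ProjectiveSpecialLinearGroup (Fin 2) (GaloisField 2 5))) =
      Nat.card M * 5 := by
    rw [Cfsg.Agent.S0813.result 2 5 (by norm_num) hG32 2 le_rfl (fun _ => by norm_num),
      Cfsg.Agent.S0265.result, ← H37.card_PSL_mul, Fintype.card_fin,
      Nat.card_eq_fintype_card (α := GaloisField 2 5), hG32, Nat.card_congr (e.trans e').toEquiv,
      if_pos rfl, one_mul, mul_comm, show Nat.gcd 2 (2 ^ 5 - 1) = 1 by decide, one_mul]
  haveI : Finite (MulAut (Matrix.ProjectiveSpecialLinearGroup (Fin 2) (GaloisField 2 5))) :=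
    Nat.finite_of_card_ne_zero (by rw [haut]; exact mul_ne_zero Nat.card_pos.ne' (by norm_num))
  have hGc : Nat.card G = Nat.card M * Nat.card (B : Subgroup G) := hcompl.card_mul_card.symm
  have hB : 1 ≤ (Nat.card G).factorization 5 := by
    refine Nat.Prime.factorization_pos_of_dvd (by norm_num) Nat.card_pos.ne' ?_
    exact (dvd_mul_of_dvd_left (dvd_mul_left 5 31) _).trans (hN ▸ card_subgroup_dvd_card _)
  refine ⟨MulEquiv.ofBijective φ (hφ.bijective_of_nat_card_le ?_)⟩
  rw [haut, hGc, B.card_eq_multiplicity]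
  exact Nat.mul_le_mul_left _ (Nat.le_self_pow (by omega) 5)

theorem large {n : ℕ} (hn : 3 ≤ n) (hS : Nat.card (S : Subgroup G) = 2 ^ n)
    (hO : Cfsg.oddCore G = ⊥) : ElemList G := by
  haveI : Fact (Nat.Prime 2) := ⟨Nat.prime_two⟩
  have hel : Cfsg.IsElementaryAbelian 2 (S : Subgroup G) :=
    ⟨h.isMulCommutative, fun a ha => by rw [pow_two]; exact h.sq a ha⟩
  have hsolv : Group.IsSolvable (↥(N S) ⧸ Cfsg.pPrimeCore 2 ↥(N S)) := by
    set S' := (S : Subgroup G).subgroupOf (N S) with hS'
    haveI : S'.Normal := normal_in_normalizer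
    haveI : Group.IsSolvable (N S ⧸ S') := H16.FT.oddOrder (by
      rw [← index_eq_card]
      refine Nat.not_even_iff_odd.1 fun hev => S.not_dvd_index ?_
      rw [← relIndex_mul_index (le_normalizer : (S : Subgroup G) ≤ N S)]
      exact (even_iff_two_dvd.1 hev).mul_right _)
    haveI : Group.IsSolvable S' := by
      haveI : IsPGroup 2 S' := S.isPGroup'.comap_of_injective _ (N S).subtype_injective
      haveI := IsPGroup.isNilpotent ‹IsPGroup 2 S'›
      infer_instance
    haveI : Group.IsSolvable (N S) := (Group.isSolvable_iff_subgroup_quotient S').2 ⟨inferInstance, inferInstance⟩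
    infer_instance
  rcases Cfsg.Agent.S4025.result (fun H K _ _ e => h.conj H K e) S n hn hel hS (N S) rfl hsolv with
    ⟨rfl, -, hiso⟩ | ⟨rfl, -, ⟨e⟩⟩
  · haveI : Fintype (GaloisField 2 3) := Fintype.ofFinite _
    obtain ⟨hsa, -, hA⟩ := H33.TwoSub.card_semiaffine (p := 2) (GaloisField 2 3)
      (GaloisField.card 2 3 (by norm_num))
    rcases hiso rfl with he | he <;> obtain ⟨e⟩ := he
    · have hN := h.card_N_of_quotient (m := 7 * 3)
        (by rw [Nat.card_congr e.toEquiv, hsa, hS]; norm_num)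
      by_cases htop : N S = ⊤
      · obtain ⟨e'⟩ := h.iso_quotient_of_normal hO htop
        exact Or.inr (Or.inl ⟨e'.trans e⟩)
      · exact (h.not_three_three (by rw [hS]; norm_num) hN htop hO).elim
    · have hN := h.card_N_of_quotient (m := 7)
        (by rw [Nat.card_congr e.toEquiv, hA, hS]; norm_num)
      by_cases htop : N S = ⊤
      · obtain ⟨e'⟩ := h.iso_quotient_of_normal hO htop
        exact Or.inl ⟨e'.trans e⟩
      · obtain ⟨F, i1, i2, hF, ⟨e1⟩⟩ := h.exists_iso_PSL (P := 7) (by norm_num) (by norm_num)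
          (by rw [hS]; norm_num) hN htop hO
        obtain ⟨e2⟩ := iso_PSL_galois (n := 3) (by norm_num) (F := F) (by rw [hF]; norm_num)
        exact Or.inr (Or.inr (Or.inr (Or.inl ⟨e1.trans e2⟩)))
  · haveI : Fintype (GaloisField 2 5) := Fintype.ofFinite _
    obtain ⟨hsa, -, -⟩ := H33.TwoSub.card_semiaffine (p := 2) (GaloisField 2 5)
      (GaloisField.card 2 5 (by norm_num))
    have hN := h.card_N_of_quotient (m := 31 * 5)
      (by rw [Nat.card_congr e.toEquiv, hsa, hS]; norm_num)
    by_cases htop : N S = ⊤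
    · obtain ⟨e'⟩ := h.iso_quotient_of_normal hO htop
      exact Or.inr (Or.inr (Or.inl ⟨e'.trans e⟩))
    · exact Or.inr (Or.inr (Or.inr (Or.inr (Or.inl
        (h.five_five (by rw [hS]; norm_num) hN htop hO)))))

end Elem

end H1.EqConj
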