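import Cfsg.Agent.H1.Cores
import Cfsg.Agent.H1.SchurZassenhausConj
import Cfsg.Agent.H1.TIElem.Basic
import Cfsg.Agent.H65.BaerSuzuki
import Cfsg.Prelude.Def_CaseTheorems

/-!
Finite groups in which any two subgroups of the same order are conjugate: quotients, real and
centralised primes, centralisers of involutions.
-/

set_option autoImplicit false
set_option linter.unusedSectionVars false
set_option linter.style.haveILetI false

namespace H1.EqConj

open Subgroup

variable {G : Type*} [Group G]

/-- Any two subgroups of the same order are conjugate. -/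
def EqOrderConj (G : Type*) [Group G] : Prop :=
  ∀ H K : Subgroup G, Nat.card H = Nat.card K → ∃ g : G, K = H.map (MulAut.conj g).toMonoidHom

variable [Finite G]

theorem card_comap (N : Subgroup G) [N.Normal] (B : Subgroup (G ⧸ N)) :
    Nat.card (B.comap (QuotientGroup.mk' N)) = Nat.card N * Nat.card B := by
  have h1 := (B.comap (QuotientGroup.mk' N)).card_mul_index
  rw [index_comap_of_surjective B (QuotientGroup.mk'_surjective N),
    Subgroup.card_eq_card_quotient_mul_card_subgroup N, ← B.card_mul_index,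
    show Nat.card B * B.index * Nat.card N = Nat.card N * Nat.card B * B.index by ring] at h1
  exact Nat.eq_of_mul_eq_mul_right (Nat.pos_of_ne_zero index_ne_zero_of_finite) h1

theorem EqOrderConj.quotient (hC : EqOrderConj G) (N : Subgroup G) [N.Normal] :
    EqOrderConj (G ⧸ N) := by
  intro H K e
  obtain ⟨g, hg⟩ := hC (H.comap (QuotientGroup.mk' N)) (K.comap (QuotientGroup.mk' N))
    (by rw [card_comap, card_comap, e])
  refine ⟨QuotientGroup.mk' N g, ?_⟩
  rw [← map_comap_eq_self_of_surjective (QuotientGroup.mk'_surjective N) K, hg, Subgroup.map_map]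
  conv_rhs =>
    rw [← map_comap_eq_self_of_surjective (QuotientGroup.mk'_surjective N) H, Subgroup.map_map]
  rfl

theorem EqOrderConj.pConj (hC : EqOrderConj G) (p : ℕ) :
    ∀ H K : Subgroup G, IsPGroup p H → IsPGroup p K → Nat.card H = Nat.card K →
      ∃ g : G, K = H.map (MulAut.conj g).toMonoidHom := fun H K _ _ e => hC H K e

theorem oddCore_quotient_oddCore (G : Type*) [Group G] [Finite G] : Cfsg.oddCore (G ⧸ Cfsg.oddCore G) = ⊥ :=
  H1.pPrimeCore_quotient_pPrimeCore 2

theorem normal_odd_eq_bot (hO : Cfsg.oddCore G = ⊥) {N : Subgroup G} [N.Normal]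
    (hN : Odd (Nat.card N)) : N = ⊥ := by
  refine eq_bot_iff.2 (hO ▸ H1.le_pPrimeCore (p := 2) ?_)
  exact Nat.coprime_two_right.2 hN

/-- No odd prime is the order of an element centralised by an involution and of one inverted by
an involution. -/
theorem EqOrderConj.realDisjoint (hC : EqOrderConj G) : H1.TIElem.RealDisjoint G := by
  intro r hr hr2 t u x y ht hu hx hy hc hinv
  have hco : Nat.Coprime r 2 := (Nat.coprime_primes hr Nat.prime_two).2 hr2
  have hnx : zpowers t ≤ normalizer ((zpowers x : Subgroup G) : Set G) := by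
    rw [zpowers_le]
    refine centralizer_le_normalizer _ (mem_centralizer_iff.2 fun z hz => ?_)
    obtain ⟨i, rfl⟩ := mem_zpowers_iff.1 hz
    exact (hc.zpow_left i).eq
  have hny : zpowers u ≤ normalizer ((zpowers y : Subgroup G) : Set G) := by
    have key : ∀ w ∈ zpowers y, u * w * u⁻¹ ∈ zpowers y := by
      rintro w hw
      obtain ⟨i, rfl⟩ := mem_zpowers_iff.1 hw
      rw [← conj_zpow, hinv]
      exact zpow_mem (inv_mem (mem_zpowers y)) i
    have hui : u⁻¹ = u := inv_eq_of_mul_eq_one_right (H67.invol_sq hu)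
    rw [zpowers_le, mem_normalizer_iff]
    refine fun w => ⟨key w, fun hw => ?_⟩
    have := key _ hw
    rwa [hui, show u * (u * w * u) * u = (u * u) * w * (u * u) by group, H67.invol_sq hu, one_mul,
      mul_one] at this
  obtain ⟨g, hg⟩ := hC (zpowers x ⊔ zpowers t) (zpowers y ⊔ zpowers u) (by
    rw [H1.card_sup_of_coprime hnx (by rw [Nat.card_zpowers, Nat.card_zpowers, hx, ht]; exact hco),
      H1.card_sup_of_coprime hny (by rw [Nat.card_zpowers, Nat.card_zpowers, hy, hu]; exact hco),
      Nat.card_zpowers, Nat.card_zpowers, Nat.card_zpowers, Nat.card_zpowers, hx, ht, hy, hu])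
  have hab : ∀ a ∈ zpowers x ⊔ zpowers t, ∀ b ∈ zpowers x ⊔ zpowers t, a * b = b * a := by
    haveI : IsMulCommutative (closure ({x, t} : Set G)) := isMulCommutative_closure (by
      rintro a (rfl | rfl) b (rfl | rfl) <;> first | rfl | exact hc.eq | exact hc.eq.symm)
    rw [zpowers_eq_closure, zpowers_eq_closure, ← Subgroup.closure_union, Set.singleton_union]
    exact fun a ha b hb => setLike_mul_comm ha hb
  obtain ⟨a, ha, hay⟩ : y ∈ (zpowers x ⊔ zpowers t).map (MulAut.conj g).toMonoidHom :=
    hg ▸ mem_sup_left (mem_zpowers y)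
  obtain ⟨b, hb, hbu⟩ : u ∈ (zpowers x ⊔ zpowers t).map (MulAut.conj g).toMonoidHom :=
    hg ▸ mem_sup_right (mem_zpowers u)
  have hcomm : u * y = y * u := by
    rw [← hay, ← hbu, ← map_mul, ← map_mul, hab a ha b hb]
  rw [hcomm, mul_inv_cancel_right] at hinv
  have h2 : y ^ 2 = 1 := by rw [pow_two]; nth_rewrite 1 [hinv]; exact inv_mul_cancel y
  have := orderOf_dvd_of_pow_eq_one h2
  rw [hy] at this
  exact hr2 ((Nat.prime_dvd_prime_iff_eq hr Nat.prime_two).1 this)

/-- With an exponent two Sylow `2`-subgroup the centraliser of each of its involutions normalises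
it. -/
theorem centralizer_le_normalizer_of (hd : H1.TIElem.RealDisjoint G) (S : Sylow 2 G)
    (hsq : ∀ s ∈ (S : Subgroup G), s * s = 1) {t : G} (ht : t ∈ (S : Subgroup G)) (ht1 : t ≠ 1)
    {g : G} (hg : Commute g t) : g ∈ normalizer ((S : Subgroup G) : Set G) := by
  haveI : Fact (Nat.Prime 2) := ⟨Nat.prime_two⟩
  set X := centralizer ({t} : Set G) with hX
  have hSX : (S : Subgroup G) ≤ X := fun a ha => mem_centralizer_singleton_iff.2 (by
    have h3 := hsq _ (mul_mem ha ht)
    calc a * t = (a * t)⁻¹ := eq_inv_of_mul_eq_one_left h3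
      _ = t * a := by
        rw [mul_inv_rev, inv_eq_of_mul_eq_one_right (hsq a ha),
          inv_eq_of_mul_eq_one_right (hsq t ht)])
  have ht2 : orderOf t = 2 := orderOf_eq_prime (by rw [pow_two]; exact hsq t ht) ht1
  have hinv : ∀ v : X, orderOf v = 2 → v ∈ Cfsg.pCore 2 X := by
    intro v hv
    by_contra hno
    obtain ⟨w, hw1, hwodd, hwv⟩ := H65.exists_odd_inverted hv hno
    obtain ⟨r, hr, hrd⟩ := Nat.exists_prime_and_dvd (fun e => hw1 (orderOf_eq_one_iff.1 e))
    obtain ⟨m, hm⟩ := hrd
    have hm0 : m ≠ 0 := fun e => by rw [e, mul_zero] at hm; exact (orderOf_pos w).ne' hm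
    have ho : orderOf ((w : G) ^ m) = r := by
      rw [← coe_pow, orderOf_coe, orderOf_pow_of_dvd hm0 ⟨r, by rw [hm, mul_comm]⟩, hm,
        Nat.mul_div_cancel _ (Nat.pos_of_ne_zero hm0)]
    refine hd r hr (fun e2 => ?_) t v ((w : G) ^ m) ((w : G) ^ m) ht2
      (by rw [orderOf_coe]; exact hv) ho ho
      ((show Commute (w : G) t from mem_centralizer_singleton_iff.1 w.2).pow_left m)
      (H1.TIElem.conj_pow_fixed (congrArg Subtype.val hwv) m)
    have := hwodd.of_dvd_nat (Dvd.intro m hm.symm)
    rw [e2] at this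
    exact absurd this (by decide)
  have hle : (S : Subgroup G).subgroupOf X ≤ Cfsg.pCore 2 X := by
    intro v hv
    by_cases hv1 : v = 1
    · rw [hv1]; exact one_mem _
    · refine hinv v (orderOf_eq_prime ?_ hv1)
      apply Subtype.ext
      rw [coe_pow, coe_one, pow_two]
      exact hsq _ (mem_subgroupOf.1 hv)
  have heq : Cfsg.pCore 2 X = (S : Subgroup G).subgroupOf X :=
    ((S.subtype hSX).3 (H1.isPGroup_pCore 2 X) hle)
  haveI : ((S : Subgroup G).subgroupOf X).Normal := heq ▸ H1.pCore_normal' 2 X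
  exact (normal_subgroupOf_iff_le_normalizer hSX).1 inferInstance
    (mem_centralizer_singleton_iff.2 hg.eq)

end H1.EqConj
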