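import Cfsg.Agent.H1.TIElem.Good
import Cfsg.Agent.H1.EqConj.Facts
import Cfsg.Agent.H67.CAIdent

/-!
Under the hypothesis of `H1.TIElem.Hyp` and `O(G) = 1` the group is `PSL(2, |S|)`.
-/

set_option autoImplicit false
set_option linter.unusedSectionVars false
set_option linter.style.haveILetI false

namespace H1.EqConj

open Subgroup H1.TIElem H1.TIElem.Hyp

universe u

variable {G : Type u} [Group G] [Finite G] {S : Subgroup G} {P : ℕ}

/-- Without normal subgroup of odd order the centraliser of `S` is `S`. -/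
theorem centralizer_eq_of_hyp (h : Hyp S P) (hO : Cfsg.oddCore G = ⊥) :
    centralizer (S : Set G) = S := by
  obtain ⟨u, hu, huN⟩ := h.exists_invol_not_mem
  obtain ⟨q, hq, hqC, hqP, -⟩ := h.exists_inverted hu huN
  have hqN := (mem_D.1 hq).1
  have hgood := h.good q hqN hqP
  set E := C S ⊓ centralizer {q} with hE
  have memE : ∀ {x : G}, x ∈ E ↔ x ∈ C S ∧ Commute x q := fun {x} =>
    ⟨fun hx => ⟨hx.1, mem_centralizer_singleton_iff.1 hx.2⟩,
      fun hx => ⟨hx.1, mem_centralizer_singleton_iff.2 hx.2⟩⟩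
  have hnormS : ∀ s ∈ S, s ∈ normalizer (E : Set G) := fun s hs =>
    centralizer_le_normalizer _ (mem_centralizer_iff.2 fun e he =>
      h.comm_C (memE.1 he).1 hs)
  have hnormq : q ∈ normalizer (E : Set G) :=
    centralizer_le_normalizer _ (mem_centralizer_iff.2 fun e he => (memE.1 he).2.eq)
  have hnormu : u ∈ normalizer (E : Set G) :=
    centralizer_le_normalizer _ (mem_centralizer_iff.2 fun e he =>
      (h.commute_u_of_E hu huN hq hqP (memE.1 he).1 (memE.1 he).2).eq)
  have hnormC : ∀ c ∈ C S, c ∈ normalizer (E : Set G) := by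
    intro c hc
    obtain ⟨s, hs, hsc⟩ := hgood c hc
    have h1 : s * c ∈ E := memE.2 ⟨mul_mem (h.S_le_C hs) hc, hsc⟩
    have h2 := mul_mem (inv_mem (hnormS s hs)) (le_normalizer h1)
    rwa [inv_mul_cancel_left] at h2
  have hnormN : ∀ g ∈ N S, g ∈ normalizer (E : Set G) := by
    intro g hg
    obtain ⟨c, hc, i, -, rfl⟩ := h.decomp hqN hqC hg
    exact mul_mem (hnormC c hc) (pow_mem hnormq i)
  haveI : E.Normal := by
    rw [← normalizer_eq_top_iff, eq_top_iff]
    intro g _
    by_cases hg : g ∈ N S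
    · exact hnormN g hg
    obtain ⟨c, hc, hm⟩ := h.C_transitive huN hg
    rw [show g = c * u * (g⁻¹ * c * u)⁻¹ by group]
    exact mul_mem (mul_mem (hnormC c hc) hnormu) (inv_mem (hnormN _ hm))
  have hEodd : Odd (Nat.card E) := by
    by_contra heven
    rw [Nat.not_odd_iff_even] at heven
    obtain ⟨t, ht, ht2⟩ := H65.exists_two_mem heven
    have := h.odd_of_E hu huN hq hqP (memE.1 ht).1 (memE.1 ht).2
    rw [ht2] at this
    exact absurd this (by decide)
  have hbot := normal_odd_eq_bot hO hEodd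
  refine le_antisymm (fun c hc => ?_) h.S_le_C
  obtain ⟨s, hs, hsc⟩ := hgood c hc
  have h1 : s * c ∈ E := memE.2 ⟨mul_mem (h.S_le_C hs) hc, hsc⟩
  rw [hbot, mem_bot] at h1
  rw [eq_inv_of_mul_eq_one_right h1]
  exact inv_mem hs

theorem exists_iso_PSL_of_hyp (h : Hyp S P) (hO : Cfsg.oddCore G = ⊥) :
    ∃ (F : Type) (_ : Field F) (_ : Fintype F), Fintype.card F = P + 1 ∧
      Nonempty (G ≃* Matrix.ProjectiveSpecialLinearGroup (Fin 2) F) := by
  haveI : Fact (Nat.Prime 2) := ⟨Nat.prime_two⟩
  have hCS := centralizer_eq_of_hyp h hO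
  let T : Sylow 2 G := h.isPGroup.toSylow (Nat.two_dvd_ne_zero.2 (Nat.odd_iff.1 h.odd_index))
  have hd : H67.CAData T := by
    refine ⟨fun hcyc => ?_, fun hn => h.not_normal ?_, fun t ht => ?_⟩
    · have h4 : 4 ≤ Nat.card S := by rw [h.card_S]; have := h.three; omega
      haveI : IsCyclic S := hcyc
      obtain ⟨g, hg⟩ := IsCyclic.exists_generator (α := S)
      have h1 : orderOf g = Nat.card S := orderOf_eq_card_of_forall_mem_zpowers hg
      have h2 : orderOf g ∣ 2 := orderOf_dvd_of_pow_eq_one (Subtype.ext (by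
        rw [coe_pow, coe_one, pow_two]; exact h.sq g g.2))
      rw [h1] at h2
      have := Nat.le_of_dvd two_pos h2
      omega
    · exact normalizer_eq_top_iff.2 hn
    · have hp : IsPGroup 2 (zpowers t) := IsPGroup.of_card (n := 1) (by
        rw [Nat.card_zpowers, ht, pow_one])
      obtain ⟨R, hR⟩ := hp.exists_le_sylow
      obtain ⟨g, hg⟩ := MulAction.exists_smul_eq G R T
      have hgt : g * t * g⁻¹ ∈ S := by
        show g * t * g⁻¹ ∈ (T : Subgroup G)
        rw [← hg]
        exact ⟨t, hR (mem_zpowers t), rfl⟩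
      have hgt1 : g * t * g⁻¹ ≠ 1 := fun e => by
        rw [conj_eq_one_iff] at e
        rw [e, orderOf_one] at ht
        exact absurd ht (by omega)
      have key : ∀ c ∈ centralizer ({t} : Set G), g * c * g⁻¹ ∈ S := by
        intro c hc
        rw [← SetLike.mem_coe, ← hCS, SetLike.mem_coe]
        refine h.cent _ hgt hgt1 _ ?_
        have hc' : c * t = t * c := mem_centralizer_singleton_iff.1 hc
        show g * c * g⁻¹ * (g * t * g⁻¹) = g * t * g⁻¹ * (g * c * g⁻¹)
        calc g * c * g⁻¹ * (g * t * g⁻¹) = g * (c * t) * g⁻¹ := by group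
          _ = g * t * g⁻¹ * (g * c * g⁻¹) := by rw [hc']; group
      refine ⟨⟨⟨fun a b => Subtype.ext ?_⟩⟩, fun c hc => ?_⟩
      · have h1 := h.comm_S (key a a.2) (key b b.2)
        refine (MulAut.conj g).injective ?_
        rw [coe_mul, coe_mul, map_mul, map_mul]
        exact h1
      · refine (MulAut.conj g).injective ?_
        rw [map_pow, map_one, pow_two]
        exact h.sq _ (key c hc)
  obtain ⟨F, i1, i2, hF, hiso⟩ := hd.exists_iso_PSL
  exact ⟨F, i1, i2, hF.trans h.card_S, hiso⟩

end H1.EqConj
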