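import Cfsg.Agent.H1.EqConj.Normalizer
import Cfsg.Agent.H1.EqConj.FromHyp
import Cfsg.Agent.S4023

/-!
The case `|N(S) : C(S)| = P * b` with `P = |S| - 1` and `b` prime: there is a normal subgroup
isomorphic to `PSL(2, |S|)` with trivial centraliser and a cyclic complement of `b`-power order.
-/

set_option autoImplicit false
set_option linter.unusedSectionVars false
set_option linter.style.haveILetI false

namespace H1.EqConj

open Subgroup

universe u

variable {G : Type u} [Group G] [Finite G]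

/-- An element is in a subgroup if two coprime powers are. -/
theorem mem_of_pow_coprime {H : Subgroup G} {x : G} {m n : ℕ} (hco : m.Coprime n) (hm : x ^ m ∈ H)
    (hn : x ^ n ∈ H) : x ∈ H := by
  have h := Nat.gcd_eq_gcd_ab m n
  rw [hco.gcd_eq_one, Nat.cast_one] at h
  rw [← zpow_one x, h, zpow_add, zpow_mul, zpow_mul, zpow_natCast, zpow_natCast]
  exact mul_mem (zpow_mem hm _) (zpow_mem hn _)

/-- An involution normalising a `b`-group centralises it, provided it centralises an element of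
order `b`. -/
theorem commute_of_disjoint (hd : H1.TIElem.RealDisjoint G) {b : ℕ} (hb : b.Prime) (hb2 : b ≠ 2)
    {Q : Subgroup G} (hQ : IsPGroup b Q) {v x : G} (hv : orderOf v = 2)
    (hvQ : ∀ z ∈ Q, v * z * v⁻¹ ∈ Q) (hx : orderOf x = b) (hxv : Commute x v) {z : G} (hz : z ∈ Q) :
    Commute v z := by
  have hvv := H67.invol_sq hv
  have hvi : v⁻¹ = v := inv_eq_of_mul_eq_one_right hvv
  set w : G := z⁻¹ * (v * z * v⁻¹) with hw
  by_cases hw1 : w = 1
  · rw [hw, inv_mul_eq_one] at hw1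
    exact (eq_mul_inv_iff_mul_eq.1 hw1).symm
  · exfalso
    have hwinv : v * w * v⁻¹ = w⁻¹ := by
      rw [hw, hvi]
      calc v * (z⁻¹ * (v * z * v)) * v = v * z⁻¹ * v * z * (v * v) := by group
        _ = (z⁻¹ * (v * z * v))⁻¹ := by
          rw [hvv, mul_one, mul_inv_rev, mul_inv_rev, mul_inv_rev, inv_inv, hvi]; group
    obtain ⟨k, hk⟩ := hQ ⟨w, mul_mem (inv_mem hz) (hvQ z hz)⟩
    have hk' : w ^ b ^ k = 1 := congrArg Subtype.val hk
    obtain ⟨j, -, hj⟩ := (Nat.dvd_prime_pow hb).1 (orderOf_dvd_of_pow_eq_one hk')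
    have hj0 : j ≠ 0 := fun e => hw1 (orderOf_eq_one_iff.1 (by rw [hj, e, pow_zero]))
    obtain ⟨l, hl⟩ := H1.TIElem.Hyp.exists_pow_orderOf_eq (r := b)
      (show b ∣ orderOf w by rw [hj]; exact dvd_pow_self b hj0)
    exact hd b hb hb2 v v x (w ^ l) hv hv hx hl hxv (H1.TIElem.conj_pow_fixed hwinv l)

/-- The hypothesis of this file. -/
structure Ext (S : Sylow 2 G) (P b : ℕ) : Prop extends Elem S where
  prime : P.Prime
  three : 3 ≤ P
  card_S : Nat.card (S : Subgroup G) = P + 1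
  bprime : b.Prime
  btwo : b ≠ 2
  bP : b ≠ P
  card_N : Nat.card (Elem.N S) = P * b * Nat.card (Elem.C S)
  fix : ∀ j : ℕ, 2 ^ j ∣ P + 1 → 2 ^ j < P + 1 → 2 ^ j ≡ P + 1 [MOD b] → j = 1
  not_normal : Elem.N S ≠ ⊤
  core : Cfsg.oddCore G = ⊥

namespace Ext

open Elem (N C)

variable {S : Sylow 2 G} {P b : ℕ} (h : Ext S P b)

include h

theorem C_normal : ((C S).subgroupOf (N S)).Normal := by
  rw [← (S : Subgroup G).normalizerMonoidHom_ker]
  infer_instance

theorem index_C : ((C S).subgroupOf (N S)).index = P * b := by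
  have h1 := ((C S).subgroupOf (N S)).index_mul_card
  rw [Nat.card_congr (subgroupOfEquivOfLe h.C_le_N).toEquiv, h.card_N] at h1
  exact Nat.eq_of_mul_eq_mul_right Nat.card_pos h1

theorem pow_mem_C {g : G} (hg : g ∈ N S) : g ^ (P * b) ∈ C S := by
  haveI := h.C_normal
  rw [← h.index_C]
  exact mem_subgroupOf.1 (pow_index_mem ((C S).subgroupOf (N S)) ⟨g, hg⟩)

/-- `C(t)` is an extension of `C(S)` by a group of order `b`. -/
theorem card_stabilizer {t : G} (ht : t ∈ (S : Subgroup G)) (ht1 : t ≠ 1) :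
    Nat.card ↥(N S ⊓ centralizer {t}) = b * Nat.card (C S) := by
  have h1 := h.card_stabilizer_mul ht ht1 le_rfl
    (fun t' ht' ht'1 => h.transitive ht ht1 ht' ht'1)
  rw [h.card_S, h.card_N, Nat.add_sub_cancel, mul_assoc] at h1
  exact Nat.eq_of_mul_eq_mul_left h.prime.pos h1

theorem stabilizer_quotient {t : G} (ht : t ∈ (S : Subgroup G)) (ht1 : t ≠ 1) :
    ((C S).subgroupOf (N S ⊓ centralizer {t})).Normal ∧
      ((C S).subgroupOf (N S ⊓ centralizer {t})).index = b := by
  refine ⟨?_, ?_⟩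
  · haveI := h.C_normal
    exact ⟨fun c hc g => mem_subgroupOf.2 (mem_subgroupOf.1 (h.C_normal.conj_mem ⟨c, c.2.1⟩
      (mem_subgroupOf.2 (mem_subgroupOf.1 hc)) ⟨g, g.2.1⟩))⟩
  · have h1 := ((C S).subgroupOf (N S ⊓ centralizer {t})).index_mul_card
    rw [Nat.card_congr (subgroupOfEquivOfLe (h.C_inf_le ht)).toEquiv,
      h.card_stabilizer ht ht1] at h1
    exact Nat.eq_of_mul_eq_mul_right Nat.card_pos h1

theorem pow_mem_of_commute {t g : G} (ht : t ∈ (S : Subgroup G)) (ht1 : t ≠ 1) (hg : Commute g t) :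
    g ^ b ∈ C S := by
  obtain ⟨hn, hidx⟩ := h.stabilizer_quotient ht ht1
  haveI := hn
  have := pow_index_mem ((C S).subgroupOf (N S ⊓ centralizer {t}))
    ⟨g, h.mem_N_of_commute ht ht1 hg, mem_centralizer_singleton_iff.2 hg⟩
  rw [hidx, mem_subgroupOf] at this
  exact this

theorem conj_inv_mem_C {t g y : G} (ht : t ∈ (S : Subgroup G)) (ht1 : t ≠ 1) (hg : Commute g t)
    (hy : Commute y t) : g * y * g⁻¹ * y⁻¹ ∈ C S := by
  obtain ⟨hn, hidx⟩ := h.stabilizer_quotient ht ht1
  haveI := hn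
  haveI : Fact b.Prime := ⟨h.bprime⟩
  haveI : IsCyclic (↥(N S ⊓ centralizer {t}) ⧸ (C S).subgroupOf (N S ⊓ centralizer {t})) :=
    isCyclic_of_prime_card (p := b) (by rw [← index_eq_card]; exact hidx)
  have hab := IsCyclic.commutative
    (α := ↥(N S ⊓ centralizer {t}) ⧸ (C S).subgroupOf (N S ⊓ centralizer {t}))
  set g' : ↥(N S ⊓ centralizer {t}) :=
    ⟨g, h.mem_N_of_commute ht ht1 hg, mem_centralizer_singleton_iff.2 hg⟩ with hg'
  set y' : ↥(N S ⊓ centralizer {t}) :=
    ⟨y, h.mem_N_of_commute ht ht1 hy, mem_centralizer_singleton_iff.2 hy⟩ with hy'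
  have h1 : g' * y' * g'⁻¹ * y'⁻¹ ∈ (C S).subgroupOf (N S ⊓ centralizer {t}) := by
    rw [← QuotientGroup.eq_one_iff, QuotientGroup.mk_mul, QuotientGroup.mk_mul,
      QuotientGroup.mk_mul, QuotientGroup.mk_inv, QuotientGroup.mk_inv, mul_inv_eq_one,
      mul_inv_eq_iff_eq_mul]
    exact hab.is_comm.comm _ _
  exact mem_subgroupOf.1 h1

theorem mem_S_of_two_pow {g : G} (hg : g ∈ N S) {k : ℕ} (h2 : g ^ 2 ^ k = 1) :
    g ∈ (S : Subgroup G) := by
  haveI : Fact (Nat.Prime 2) := ⟨Nat.prime_two⟩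
  have hp : IsPGroup 2 (zpowers g) := by
    rintro ⟨v, hv⟩
    obtain ⟨m, rfl⟩ := mem_zpowers_iff.mp hv
    exact ⟨k, Subtype.ext (by
      rw [coe_pow, coe_one, ← zpow_natCast, ← zpow_mul, mul_comm, zpow_mul, zpow_natCast, h2,
        one_zpow])⟩
  have hsup : IsPGroup 2 ↥(zpowers g ⊔ (S : Subgroup G)) :=
    hp.to_sup_of_normal_right' S.isPGroup' (zpowers_le.mpr hg)
  have h3 := S.3 hsup le_sup_right
  have h4 : g ∈ zpowers g ⊔ (S : Subgroup G) := mem_sup_left (mem_zpowers g)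
  rwa [h3] at h4

/-- An element of `b`-power order of `N(S)` outside `C(S)` fixes exactly one involution of `S`. -/
theorem fixed {y : G} {k : ℕ} (hy : y ∈ N S) (hyk : y ^ b ^ k = 1) (hyC : y ∉ C S) :
    Nat.card ↥((S : Subgroup G) ⊓ centralizer {y}) = 2 := by
  classical
  haveI : Fact b.Prime := ⟨h.bprime⟩
  haveI : Fact (Nat.Prime 2) := ⟨Nat.prime_two⟩
  let φ : zpowers y →* MulAut (S : Subgroup G) :=
    (S : Subgroup G).normalizerMonoidHom.comp (Subgroup.inclusion (zpowers_le.2 hy))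
  letI := MulAction.compHom (S : Subgroup G) φ
  have hp : IsPGroup b (zpowers y) := by
    rintro ⟨v, hv⟩
    obtain ⟨m, rfl⟩ := mem_zpowers_iff.mp hv
    exact ⟨k, Subtype.ext (by
      rw [coe_pow, coe_one, ← zpow_natCast, ← zpow_mul, mul_comm, zpow_mul, zpow_natCast, hyk,
        one_zpow])⟩
  have hfix : ∀ s : (S : Subgroup G),
      s ∈ MulAction.fixedPoints (zpowers y) (S : Subgroup G) ↔ Commute (s : G) y := by
    intro s
    constructor
    · intro hs
      have h1 : y * (s : G) * y⁻¹ = s :=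
        congrArg Subtype.val (hs ⟨y, mem_zpowers y⟩)
      exact (mul_inv_eq_iff_eq_mul.1 h1).symm
    · rintro hs ⟨v, hv⟩
      obtain ⟨m, rfl⟩ := mem_zpowers_iff.mp hv
      refine Subtype.ext ?_
      show y ^ m * (s : G) * (y ^ m)⁻¹ = s
      rw [← (hs.zpow_right m).eq, mul_inv_cancel_right]
  let e : MulAction.fixedPoints (zpowers y) (S : Subgroup G) ≃
      ↥((S : Subgroup G) ⊓ centralizer {y}) :=
    { toFun := fun s => ⟨((s : (S : Subgroup G)) : G), (s : (S : Subgroup G)).2,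
        mem_centralizer_singleton_iff.2 ((hfix _).1 s.2)⟩
      invFun := fun s => ⟨⟨s, s.2.1⟩, (hfix _).2 (mem_centralizer_singleton_iff.1 s.2.2)⟩
      left_inv := fun _ => rfl
      right_inv := fun _ => rfl }
  have hmod := hp.card_modEq_card_fixedPoints (S : Subgroup G)
  rw [Nat.card_congr e, h.card_S] at hmod
  obtain ⟨j, hj⟩ := IsPGroup.iff_card.1
    (S.isPGroup'.to_le (inf_le_left : (S : Subgroup G) ⊓ centralizer {y} ≤ S))
  rw [hj] at hmod ⊢
  rw [h.fix j ?_ ?_ hmod.symm, pow_one]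
  · rw [← hj, ← h.card_S]; exact card_dvd_of_le inf_le_left
  · refine lt_of_le_of_ne ?_ fun e => hyC ?_
    · rw [← hj, ← h.card_S]; exact card_le_of_le inf_le_left
    · have h1 : (S : Subgroup G) ⊓ centralizer {y} = S :=
        eq_of_le_of_card_ge inf_le_left (by rw [hj, h.card_S, e])
      refine mem_centralizer_iff.2 fun s hs => ?_
      have h2 : s ∈ (S : Subgroup G) ⊓ centralizer {y} := by rw [h1]; exact hs
      exact mem_centralizer_singleton_iff.1 h2.2

/-- The data attached to such an element. -/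
theorem exists_fixed {y : G} {k : ℕ} (hy : y ∈ N S) (hyk : y ^ b ^ k = 1) (hyC : y ∉ C S) :
    ∃ t ∈ (S : Subgroup G), t ≠ 1 ∧ Commute y t ∧
      ∀ R : Subgroup G, IsPGroup 2 R → t ∈ R → R ≤ centralizer {y} → R = zpowers t := by
  haveI : Fact (Nat.Prime 2) := ⟨Nat.prime_two⟩
  have hW := h.fixed hy hyk hyC
  haveI : Nontrivial ↥((S : Subgroup G) ⊓ centralizer {y}) :=
    Finite.one_lt_card_iff_nontrivial.1 (by omega)
  obtain ⟨⟨t, htS, hty⟩, ht1'⟩ := exists_ne (1 : ↥((S : Subgroup G) ⊓ centralizer {y}))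
  have ht1 : t ≠ 1 := fun e => ht1' (Subtype.ext e)
  refine ⟨t, htS, ht1, (mem_centralizer_singleton_iff.1 hty : t * y = y * t).symm,
    fun R hR htR hRy => ?_⟩
  have hW' : (S : Subgroup G) ⊓ centralizer {y} = zpowers t :=
    (eq_of_le_of_card_ge ((zpowers_le (H := (S : Subgroup G) ⊓ centralizer {y})).2 ⟨htS, hty⟩)
      (by rw [hW, Nat.card_zpowers, h.orderOf_mem htS ht1])).symm
  refine le_antisymm (fun r hr => ?_) (zpowers_le.2 htR)
  rw [← hW']
  refine mem_inf.2 ⟨?_, hRy hr⟩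
  -- `R` is elementary abelian, being conjugate into `S`
  obtain ⟨T, hT⟩ := hR.exists_le_sylow
  obtain ⟨g, hg⟩ := MulAction.exists_smul_eq G S T
  have hsq : ∀ x ∈ R, x * x = 1 := by
    intro x hx
    have hx' : x ∈ (T : Subgroup G) := hT hx
    rw [← hg, Sylow.coe_subgroup_smul] at hx'
    obtain ⟨s, hs, rfl⟩ := hx'
    show g * s * g⁻¹ * (g * s * g⁻¹) = 1
    rw [show g * s * g⁻¹ * (g * s * g⁻¹) = g * (s * s) * g⁻¹ by group, h.sq s hs]
    group
  have hrt : Commute r t := by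
    have h3 := hsq _ (mul_mem hr htR)
    show r * t = t * r
    calc r * t = (r * t)⁻¹ := eq_inv_of_mul_eq_one_left h3
      _ = t * r := by
        rw [mul_inv_rev, inv_eq_of_mul_eq_one_right (hsq r hr),
          inv_eq_of_mul_eq_one_right (hsq t htR)]
  exact h.mem_S_of_two_pow (h.mem_N_of_commute htS ht1 hrt) (k := 1)
    (by rw [pow_one, pow_two]; exact hsq r hr)

/-- In the centraliser of such an element all involutions are conjugate and there is a
`b`-subgroup of full order in `N(S)`. -/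
theorem centralizer_props {y : G} {k : ℕ} (hy : y ∈ N S) (hyk : y ^ b ^ k = 1) (hyC : y ∉ C S) :
    ∃ t ∈ (S : Subgroup G), t ≠ 1 ∧ Commute y t ∧
      (∀ R : Subgroup G, IsPGroup 2 R → R ≤ centralizer {y} → Nat.card R ∣ 2) ∧
      (∀ v : G, orderOf v = 2 → Commute v y →
        ∃ c : G, Commute c y ∧ c * v * c⁻¹ = t) ∧
      ∃ Z : Subgroup G, Z ≤ N S ∧ IsPGroup b Z ∧
        Nat.card Z = b ^ (Nat.card (centralizer ({y} : Set G))).factorization b := by
  classical
  haveI : Fact (Nat.Prime 2) := ⟨Nat.prime_two⟩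
  haveI : Fact b.Prime := ⟨h.bprime⟩
  obtain ⟨t, htS, ht1, hyt, hR⟩ := h.exists_fixed hy hyk hyC
  refine ⟨t, htS, ht1, hyt, ?_⟩
  set X := centralizer ({y} : Set G) with hX
  have htX : t ∈ X := mem_centralizer_singleton_iff.2 hyt.symm.eq
  have ht2 := h.orderOf_mem htS ht1
  have hzt : IsPGroup 2 (zpowers (⟨t, htX⟩ : X)) := IsPGroup.of_card (n := 1) (by
    rw [Nat.card_zpowers, Subgroup.orderOf_mk, ht2, pow_one])
  obtain ⟨T, hT⟩ := hzt.exists_le_sylow
  have hTeq : (T : Subgroup X).map X.subtype = zpowers t :=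
    hR _ (T.isPGroup'.map _) ⟨⟨t, htX⟩, hT (mem_zpowers _), rfl⟩ (map_subtype_le _)
  have hTc : Nat.card (T : Subgroup X) = 2 := by
    rw [← card_map_of_injective X.subtype_injective, hTeq, Nat.card_zpowers, ht2]
  have hsmall : ∀ R : Subgroup G, IsPGroup 2 R → R ≤ X → Nat.card R ∣ 2 := by
    intro R hR2 hRX
    obtain ⟨T', hT'⟩ : ∃ T' : Sylow 2 X, R.subgroupOf X ≤ T' :=
      (hR2.comap_of_injective X.subtype X.subtype_injective).exists_le_sylow
    have h1 := card_dvd_of_le hT'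
    rw [Nat.card_congr (subgroupOfEquivOfLe hRX).toEquiv,
      Sylow.card_eq_multiplicity T'] at h1
    rwa [← T.card_eq_multiplicity, hTc] at h1
  have hinv : ∀ v : G, orderOf v = 2 → Commute v y → ∃ c : G, Commute c y ∧ c * v * c⁻¹ = t := by
    intro v hv hvy
    have hvX : v ∈ X := mem_centralizer_singleton_iff.2 hvy.eq
    obtain ⟨T', hT'⟩ := (IsPGroup.of_card (n := 1) (G := zpowers (⟨v, hvX⟩ : X)) (p := 2) (by
      rw [Nat.card_zpowers, Subgroup.orderOf_mk, hv, pow_one])).exists_le_sylow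
    obtain ⟨c, hc⟩ := MulAction.exists_smul_eq X T' T
    refine ⟨c, mem_centralizer_singleton_iff.1 c.2, ?_⟩
    have h1 : c * ⟨v, hvX⟩ * c⁻¹ ∈ (T : Subgroup X) := by
      rw [← hc]
      exact ⟨⟨v, hvX⟩, hT' (mem_zpowers _), rfl⟩
    have h2 : (c : G) * v * (c : G)⁻¹ ∈ zpowers t := by
      rw [← hTeq]
      exact ⟨_, h1, rfl⟩
    obtain ⟨i, hi⟩ := mem_zpowers_iff.1 h2
    rw [zpow_eq_zpow_emod' i (show t ^ 2 = 1 by rw [← ht2, pow_orderOf_eq_one])] at hi
    rcases Int.emod_two_eq_zero_or_one i with e | e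
    · rw [show ((2 : ℕ) : ℤ) = 2 from rfl, e, zpow_zero] at hi
      have hv1 := conj_eq_one_iff.1 hi.symm
      rw [hv1, orderOf_one] at hv
      omega
    · rw [show ((2 : ℕ) : ℤ) = 2 from rfl, e, zpow_one] at hi
      exact hi.symm
  refine ⟨hsmall, hinv, ?_⟩
  -- the normal complement of odd order
  haveI hTcyc : IsCyclic (T : Subgroup X) := isCyclic_of_prime_card (p := 2) hTc
  have hmin : 2 = (Nat.card X).minFac :=
    ((Nat.minFac_eq_two_iff _).2 (hTc ▸ card_subgroup_dvd_card _)).symm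
  have hcompl :=
    MonoidHom.ker_transferSylow_isComplement' T (hTcyc.normalizer_le_centralizer hmin.symm)
  set O := (MonoidHom.transferSylow T (hTcyc.normalizer_le_centralizer hmin.symm)).ker with hO
  have hXO : Nat.card X = Nat.card O * 2 := by rw [← hTc, hcompl.card_mul_card]
  let Q : Sylow b O := default
  set Q' : Subgroup X := (Q : Subgroup O).map O.subtype with hQ'
  have hfr : normalizer (Q' : Set X) ⊔ O = ⊤ := Q.normalizer_sup_eq_top
  have h2N : Even (Nat.card (normalizer (Q' : Set X))) := by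
    rw [even_iff_two_dvd]
    have h1 := H1.card_sup_dvd_mul (normalizer (Q' : Set X)) O
    rw [hfr, card_top, hXO, mul_comm (Nat.card O) 2, mul_dvd_mul_iff_right Nat.card_pos.ne'] at h1
    exact h1
  obtain ⟨v, hvN, hv⟩ := H65.exists_two_mem h2N
  have hvG : orderOf (v : G) = 2 := by rw [orderOf_coe]; exact hv
  have hvy : Commute (v : G) y := mem_centralizer_singleton_iff.1 v.2
  have hQp : IsPGroup b (Q'.map X.subtype) := (Q.isPGroup'.map _).map _
  obtain ⟨l, hl⟩ : ∃ l : ℕ, orderOf (y ^ l) = b := by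
    refine H1.TIElem.Hyp.exists_pow_orderOf_eq ?_
    obtain ⟨j, -, hj⟩ := (Nat.dvd_prime_pow h.bprime).1 (orderOf_dvd_of_pow_eq_one hyk)
    rw [hj]
    refine dvd_pow_self b fun e => hyC ?_
    rw [e, pow_zero, orderOf_eq_one_iff] at hj
    rw [hj]; exact one_mem _
  have hcent : ∀ z ∈ Q', Commute (v : G) (z : G) := fun z hz =>
    commute_of_disjoint h.conj.realDisjoint h.bprime h.btwo hQp hvG
      (by
        rintro _ ⟨w, hw, rfl⟩
        exact ⟨v * w * v⁻¹, (mem_normalizer_iff.1 hvN w).1 hw, rfl⟩)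
      hl (hvy.symm.pow_left l) ⟨z, hz, rfl⟩
  obtain ⟨c, -, hcv⟩ := hinv v hvG hvy
  refine ⟨(Q'.map X.subtype).map (MulAut.conj c).toMonoidHom, ?_, hQp.map _, ?_⟩
  · rintro _ ⟨_, ⟨z, hz, rfl⟩, rfl⟩
    refine h.mem_N_of_commute htS ht1 ?_
    rw [← hcv]
    exact (hcent z hz).symm.map (MulAut.conj c).toMonoidHom
  · rw [card_map_of_injective (MulAut.conj c).injective,
      card_map_of_injective X.subtype_injective, hQ',
      card_map_of_injective O.subtype_injective, Q.card_eq_multiplicity, hXO,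
      Nat.factorization_mul Nat.card_pos.ne' two_ne_zero, Finsupp.add_apply,
      Nat.factorization_eq_zero_of_not_dvd fun hd =>
        h.btwo ((Nat.prime_dvd_prime_iff_eq h.bprime Nat.prime_two).1 hd), add_zero]

/-- A cyclic Sylow `b`-subgroup of `G` in `N(S)`. -/
theorem exists_sylow : ∃ (B : Sylow b G) (y : G), (B : Subgroup G) = zpowers y ∧ y ∈ N S ∧
    y ∉ C S := by
  classical
  haveI : Fact b.Prime := ⟨h.bprime⟩
  haveI := h.C_normal
  let B₀ : Sylow b (N S) := default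
  set B : Subgroup G := (B₀ : Subgroup (N S)).map (N S).subtype with hB
  have hBp : IsPGroup b B := B₀.isPGroup'.map _
  have hBN : B ≤ N S := map_subtype_le _
  have hBc : Nat.card B = Nat.card (B₀ : Subgroup (N S)) :=
    card_map_of_injective (N S).subtype_injective
  have hnotle : ¬ B ≤ C S := by
    intro hle
    have h1 : (B₀ : Subgroup (N S)) ≤ (C S).subgroupOf (N S) := fun x hx =>
      mem_subgroupOf.2 (hle ⟨x, hx, rfl⟩)
    have h2 := index_dvd_of_le h1
    rw [h.index_C] at h2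
    exact B₀.not_dvd_index ((dvd_mul_left b P).trans h2)
  obtain ⟨Bg, hBg⟩ := hBp.exists_le_sylow
  -- the types of `Bg`
  have htype : IsCyclic (Bg : Subgroup G) ∨ ∀ x ∈ (Bg : Subgroup G), x ^ b = 1 := by
    rcases Cfsg.Agent.S4023.result (fun H K _ _ e => h.conj H K e) Bg with
      h1 | h1 | ⟨h1, -⟩ | ⟨-, -, -, h1⟩
    · exact Or.inl h1
    · exact Or.inr fun x hx => h1.2 x hx
    · exact absurd h1 h.btwo
    · refine Or.inr fun x hx => ?_
      have := Monoid.pow_exponent_eq_one (⟨x, hx⟩ : (Bg : Subgroup G))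
      rw [h1] at this
      exact congrArg Subtype.val this
  have hpow : ∀ x ∈ B, ∃ k, x ^ b ^ k = 1 := fun x hx => by
    obtain ⟨k, hk⟩ := hBp ⟨x, hx⟩
    exact ⟨k, congrArg Subtype.val hk⟩
  -- `B` is cyclic, generated outside `C(S)`
  obtain ⟨y, hyB, hyC, hBy⟩ : ∃ y ∈ B, y ∉ C S ∧ B = zpowers y := by
    rcases htype with hcyc | hexp
    · haveI := hcyc
      haveI : IsCyclic B := isCyclic_of_injective (Subgroup.inclusion hBg)
        (Subgroup.inclusion_injective hBg)
      obtain ⟨y, hy⟩ := IsCyclic.exists_generator (α := B)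
      have hBy : B = zpowers (y : G) := le_antisymm (fun x hx => by
        obtain ⟨i, hi⟩ := mem_zpowers_iff.1 (hy ⟨x, hx⟩)
        exact mem_zpowers_iff.2 ⟨i, congrArg Subtype.val hi⟩) (zpowers_le.2 y.2)
      exact ⟨y, y.2, fun hC => hnotle (hBy ▸ zpowers_le.2 hC), hBy⟩
    · obtain ⟨y, hy, hyC⟩ := SetLike.not_le_iff_exists.1 hnotle
      refine ⟨y, hy, hyC, ?_⟩
      have hy1 : y ≠ 1 := fun e => hyC (e ▸ one_mem _)
      have hyo : orderOf y = b := orderOf_eq_prime (hexp y (hBg hy)) hy1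
      have hBC : B ⊓ C S = ⊥ := by
        rw [eq_bot_iff_forall]
        intro c hc
        by_contra hc1
        obtain ⟨g, hg⟩ := h.conj (zpowers c) (zpowers y) (by
          rw [Nat.card_zpowers, Nat.card_zpowers, hyo, orderOf_eq_prime (hexp c (hBg hc.1)) hc1])
        obtain ⟨k, hk⟩ := hpow y hy
        obtain ⟨t, -, -, -, hsmall, -⟩ := h.centralizer_props (hBN hy) hk hyC
        have h1 := hsmall ((S : Subgroup G).map (MulAut.conj g).toMonoidHom) (S.isPGroup'.map _) (by
          rintro _ ⟨s, hs, rfl⟩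
          obtain ⟨_, hi', hyi⟩ : y ∈ (zpowers c).map (MulAut.conj g).toMonoidHom :=
            hg ▸ mem_zpowers y
          obtain ⟨i, rfl⟩ := mem_zpowers_iff.1 hi'
          rw [mem_centralizer_singleton_iff, ← hyi, ← map_mul, ← map_mul]
          congr 1
          exact ((show Commute s c from mem_centralizer_iff.1 hc.2 s hs).zpow_right i).eq)
        rw [card_map_of_injective (MulAut.conj g).injective, h.card_S] at h1
        have := Nat.le_of_dvd two_pos h1
        have := h.three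
        omega
      have hdvd : Nat.card B ∣ P * b := by
        rw [← h.index_C]
        refine dvd_trans (dvd_of_eq ?_)
          (relIndex_dvd_index_of_normal ((C S).subgroupOf (N S)) (B₀ : Subgroup (N S)))
        rw [← inf_relIndex_right, hBc]
        suffices (C S).subgroupOf (N S) ⊓ (B₀ : Subgroup (N S)) = ⊥ by
          rw [this, relIndex_bot_left]
        rw [eq_bot_iff_forall]
        intro x hx
        refine Subtype.ext ?_
        have : (x : G) ∈ B ⊓ C S := ⟨⟨x, hx.2, rfl⟩, mem_subgroupOf.1 hx.1⟩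
        rw [hBC, mem_bot] at this
        exact this
      obtain ⟨j, hj⟩ := IsPGroup.iff_card.1 hBp
      have hj1 : j ≤ 1 := by
        by_contra hlt
        push_neg at hlt
        have h2 : b * b ∣ P * b := (pow_two b ▸ pow_dvd_pow b hlt).trans (hj ▸ hdvd)
        exact h.bP ((Nat.prime_dvd_prime_iff_eq h.bprime h.prime).1
          (Nat.dvd_of_mul_dvd_mul_right h.bprime.pos h2))
      refine (eq_of_le_of_card_ge (zpowers_le.2 hy) ?_).symm
      rw [Nat.card_zpowers, hyo, hj]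
      exact (Nat.pow_le_pow_right h.bprime.pos hj1).trans (pow_one b).le
  obtain ⟨k, hk⟩ := hpow y hyB
  obtain ⟨t, -, -, -, -, -, Z, hZN, hZp, hZc⟩ := h.centralizer_props (hBN hyB) hk hyC
  -- `B` is a Sylow subgroup of `G`
  suffices hfull : (Bg : Subgroup G) ≤ B by
    exact ⟨Bg, y, (le_antisymm hfull hBg).trans hBy, hBN hyB, hyC⟩
  set A := (Bg : Subgroup G) ⊓ centralizer {y} with hA
  have hAB : A = B := by
    have hle : B ≤ A := hBy ▸ zpowers_le.2 ⟨hBg hyB, mem_centralizer_singleton_iff.2 rfl⟩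
    refine (eq_of_le_of_card_ge hle ?_).symm
    obtain ⟨B', hB'⟩ : ∃ B' : Sylow b (N S), Z.subgroupOf (N S) ≤ B' :=
      (hZp.comap_of_injective (N S).subtype (N S).subtype_injective).exists_le_sylow
    have h1 := card_dvd_of_le hB'
    rw [Nat.card_congr (subgroupOfEquivOfLe hZN).toEquiv, hZc, B'.card_eq_multiplicity,
      ← B₀.card_eq_multiplicity, ← hBc] at h1
    obtain ⟨A', hA'⟩ : ∃ A' : Sylow b (centralizer ({y} : Set G)),
        A.subgroupOf (centralizer ({y} : Set G)) ≤ (A' : Subgroup (centralizer ({y} : Set G))) :=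
      ((Bg.isPGroup'.to_le (inf_le_left : A ≤ Bg)).comap_of_injective
        (centralizer ({y} : Set G)).subtype Subtype.val_injective).exists_le_sylow
    have h2 := card_dvd_of_le hA'
    rw [Nat.card_congr (subgroupOfEquivOfLe (inf_le_right : A ≤ centralizer {y})).toEquiv,
      A'.card_eq_multiplicity] at h2
    exact Nat.le_of_dvd Nat.card_pos (h2.trans h1)
  intro x hx
  rcases htype with hcyc | hexp
  · rw [← hAB]
    haveI := hcyc
    letI := IsCyclic.commGroup (α := (Bg : Subgroup G))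
    exact ⟨hx, mem_centralizer_singleton_iff.2
      (congrArg Subtype.val (mul_comm (⟨x, hx⟩ : (Bg : Subgroup G)) ⟨y, hBg hyB⟩))⟩
  · have hyo : orderOf y = b :=
      orderOf_eq_prime (hexp y (hBg hyB)) fun e => hyC (e ▸ one_mem _)
    haveI : Nontrivial (Bg : Subgroup G) :=
      ⟨⟨y, hBg hyB⟩, 1, fun e => hyC (by
        rw [show y = 1 from congrArg Subtype.val e]; exact one_mem _)⟩
    have := Bg.isPGroup'.center_nontrivial
    obtain ⟨⟨z, hzc⟩, hz1⟩ := exists_ne (1 : Subgroup.center (Bg : Subgroup G))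
    have hcomm : ∀ w ∈ (Bg : Subgroup G), Commute w (z : G) := fun w hw =>
      congrArg Subtype.val (mem_center_iff.1 hzc ⟨w, hw⟩)
    have hz1' : (z : G) ≠ 1 := fun e => hz1 (Subtype.ext (Subtype.ext e))
    have hzB : (z : G) ∈ B :=
      hAB ▸ ⟨z.2, mem_centralizer_singleton_iff.2 (hcomm y (hBg hyB)).symm.eq⟩
    have hBz : zpowers (z : G) = B := by
      refine eq_of_le_of_card_ge (zpowers_le.2 hzB) ?_
      rw [hBy, Nat.card_zpowers, Nat.card_zpowers, hyo, orderOf_eq_prime (hexp z z.2) hz1']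
    rw [← hAB]
    refine ⟨hx, mem_centralizer_singleton_iff.2 ?_⟩
    obtain ⟨i, hi⟩ := mem_zpowers_iff.1 (hBz.symm ▸ hyB : y ∈ zpowers (z : G))
    rw [← hi]
    exact ((hcomm x hx).zpow_right i).eq

/-- Burnside's condition. -/
theorem normalizer_le (B : Sylow b G) {y : G} (hB : (B : Subgroup G) = zpowers y) (hy : y ∈ N S)
    (hyC : y ∉ C S) :
    normalizer ((B : Subgroup G) : Set G) ≤ centralizer ((B : Subgroup G) : Set G) := by
  haveI : Fact b.Prime := ⟨h.bprime⟩
  intro g hg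
  have hyB : y ∈ (B : Subgroup G) := by rw [hB]; exact mem_zpowers y
  obtain ⟨k, hk'⟩ := B.isPGroup' ⟨y, hyB⟩
  have hk : y ^ b ^ k = 1 := congrArg Subtype.val hk'
  obtain ⟨t, htS, ht1, hyt, -, hinv, -⟩ := h.centralizer_props hy hk hyC
  obtain ⟨j, hj⟩ : ∃ j : ℤ, y ^ j = g * y * g⁻¹ := mem_zpowers_iff.1 (by
    rw [← hB]; exact (mem_normalizer_iff.1 hg y).1 hyB)
  obtain ⟨i, hi⟩ : ∃ i : ℤ, y ^ i = g⁻¹ * y * g := mem_zpowers_iff.1 (by
    rw [← hB]; simpa using (mem_normalizer_iff.1 (inv_mem hg) y).1 hyB)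
  -- correct `g` to centralise `t`
  have hvy : Commute (g * t * g⁻¹) y := by
    have h1 : Commute t (g⁻¹ * y * g) := hi ▸ hyt.symm.zpow_right i
    have h2 := h1.map (MulAut.conj g).toMonoidHom
    simpa [MulAut.conj_apply, mul_assoc] using h2
  obtain ⟨c, hcy, hct⟩ := hinv _ (H67.invol_conj (h.orderOf_mem htS ht1) g) hvy
  have hg't : Commute (c * g) t := by
    show c * g * t = t * (c * g)
    calc c * g * t = c * (g * t * g⁻¹) * c⁻¹ * (c * g) := by group
      _ = t * (c * g) := by rw [hct]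
  have hg'y : c * g * y * (c * g)⁻¹ = y ^ j := by
    rw [show c * g * y * (c * g)⁻¹ = c * (g * y * g⁻¹) * c⁻¹ by group, ← hj,
      (hcy.zpow_right j).eq, mul_inv_cancel_right]
  have hjC : y ^ (j - 1) ∈ C S := by
    have := h.conj_inv_mem_C htS ht1 hg't hyt
    rwa [hg'y, ← zpow_sub_one] at this
  have hbj : (b : ℤ) ∣ j - 1 := by
    by_contra hnd
    obtain ⟨u, v, huv⟩ : IsCoprime (b : ℤ) (j - 1) :=
      (Nat.prime_iff_prime_int.1 h.bprime).coprime_iff_not_dvd.2 hnd
    apply hyC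
    rw [show y = (y ^ (b : ℤ)) ^ u * (y ^ (j - 1)) ^ v by
      rw [← zpow_mul, ← zpow_mul, ← zpow_add, mul_comm (b : ℤ), mul_comm (j - 1), huv, zpow_one]]
    refine mul_mem (zpow_mem ?_ u) (zpow_mem hjC v)
    rw [zpow_natCast]
    exact h.pow_mem_of_commute htS ht1 hyt
  -- conjugation by `g` has `b`-power period and period prime to `b`
  have hiter : ∀ m : ℕ, g ^ m * y * (g ^ m)⁻¹ = y ^ (j ^ m) := by
    intro m
    induction m with
    | zero => simp
    | succ m ih =>
      calc g ^ (m + 1) * y * (g ^ (m + 1))⁻¹ = g * (g ^ m * y * (g ^ m)⁻¹) * g⁻¹ := by group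
        _ = (g * y * g⁻¹) ^ (j ^ m) := by rw [ih, conj_zpow]
        _ = y ^ (j ^ (m + 1)) := by rw [← hj, ← zpow_mul, ← pow_succ']
  have h1 : (g ^ b ^ k) * y * (g ^ b ^ k)⁻¹ = y := by
    rw [hiter]
    have hd : ((orderOf y : ℕ) : ℤ) ∣ j ^ b ^ k - 1 := by
      have h2 := dvd_sub_pow_of_dvd_sub (R := ℤ) (p := b) (b := 1) hbj k
      rw [one_pow, pow_succ] at h2
      refine dvd_trans ?_ ((dvd_mul_right _ _).trans h2)
      exact_mod_cast orderOf_dvd_of_pow_eq_one hk
    rw [show j ^ b ^ k = (j ^ b ^ k - 1) + 1 by ring, zpow_add_one,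
      orderOf_dvd_iff_zpow_eq_one.1 hd, one_mul]
  have hcomm1 : g ^ b ^ k ∈ centralizer ((B : Subgroup G) : Set G) := by
    refine mem_centralizer_iff.2 fun z hz => ?_
    rw [SetLike.mem_coe, hB] at hz
    obtain ⟨l, rfl⟩ := mem_zpowers_iff.1 hz
    exact ((show Commute (g ^ b ^ k) y from mul_inv_eq_iff_eq_mul.1 h1).zpow_right l).eq.symm
  set NB := normalizer ((B : Subgroup G) : Set G) with hNB
  set D := (centralizer ((B : Subgroup G) : Set G)).subgroupOf NB with hD
  haveI : D.Normal := by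
    rw [hD, ← (B : Subgroup G).normalizerMonoidHom_ker]
    infer_instance
  have hBD : (B : Subgroup G).subgroupOf NB ≤ D := fun z hz => mem_subgroupOf.2
    (mem_centralizer_iff.2 fun w hw => by
      rw [SetLike.mem_coe, hB] at hw
      have hz' := mem_subgroupOf.1 hz
      rw [hB] at hz'
      obtain ⟨l, hl⟩ := mem_zpowers_iff.1 hw
      obtain ⟨m, hm⟩ := mem_zpowers_iff.1 hz'
      rw [← hl, ← hm, ← zpow_add, ← zpow_add, add_comm])
  have hnd : ¬ b ∣ D.index := fun hd =>
    (B.subtype le_normalizer).not_dvd_index (hd.trans (index_dvd_of_le hBD))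
  exact mem_subgroupOf.1 (mem_of_pow_coprime (H := D) (x := (⟨g, hg⟩ : NB))
    ((h.bprime.coprime_iff_not_dvd.2 hnd).pow_left k) (mem_subgroupOf.2 hcomm1)
    (pow_index_mem D _))

/-- The normal subgroup isomorphic to `PSL(2, P + 1)`. -/
theorem exists_normal_PSL : ∃ (M : Subgroup G) (B : Sylow b G), M.Normal ∧
    M.IsComplement' (B : Subgroup G) ∧ centralizer (M : Set G) = ⊥ ∧ (S : Subgroup G) ≤ M ∧
    ∃ (F : Type) (_ : Field F) (_ : Fintype F), Fintype.card F = P + 1 ∧
      Nonempty (M ≃* Matrix.ProjectiveSpecialLinearGroup (Fin 2) F) := by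
  classical
  haveI : Fact b.Prime := ⟨h.bprime⟩
  haveI : Fact (Nat.Prime 2) := ⟨Nat.prime_two⟩
  obtain ⟨B, y, hB, hy, hyC⟩ := h.exists_sylow
  have hNC := h.normalizer_le B hB hy hyC
  set M := (MonoidHom.transferSylow B hNC).ker with hM
  have hcompl : M.IsComplement' (B : Subgroup G) :=
    MonoidHom.ker_transferSylow_isComplement' B hNC
  have hMb : ¬ b ∣ Nat.card M := by
    rw [← hcompl.index_eq_card]
    exact B.not_dvd_index
  have hprime' : ∀ g : G, ¬ b ∣ orderOf g → g ∈ M := by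
    intro g hg
    rw [hM, MonoidHom.mem_ker, ← orderOf_eq_one_iff]
    refine Nat.eq_one_of_dvd_coprimes ?_ (orderOf_map_dvd _ g)
      (orderOf_dvd_natCard (MonoidHom.transferSylow B hNC g))
    rw [B.card_eq_multiplicity]
    exact ((h.bprime.coprime_iff_not_dvd.2 hg).pow_left _).symm
  have hSM : (S : Subgroup G) ≤ M := fun s hs => hprime' s fun hd => by
    by_cases hs1 : s = 1
    · rw [hs1, orderOf_one] at hd; exact h.bprime.ne_one (Nat.dvd_one.1 hd)
    · rw [h.orderOf_mem hs hs1] at hd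
      exact h.btwo ((Nat.prime_dvd_prime_iff_eq h.bprime Nat.prime_two).1 hd)
  have hyB : y ∈ (B : Subgroup G) := by rw [hB]; exact mem_zpowers y
  obtain ⟨k, hk'⟩ := B.isPGroup' ⟨y, hyB⟩
  obtain ⟨t, htS, ht1, hyt, -⟩ :=
    h.exists_fixed hy (congrArg Subtype.val hk' : y ^ b ^ k = 1) hyC
  have hcentM : ∀ t' ∈ (S : Subgroup G), t' ≠ 1 → ∀ g ∈ M, Commute g t' → g ∈ C S := by
    intro t' ht' ht'1 g hg hgc
    refine mem_of_pow_coprime (m := b) (n := orderOf g) ?_
      (h.pow_mem_of_commute ht' ht'1 hgc) (by rw [pow_orderOf_eq_one]; exact one_mem _)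
    refine h.bprime.coprime_iff_not_dvd.2 fun hd => hMb (hd.trans ?_)
    rw [← Subgroup.orderOf_mk (H := M) g hg]
    exact orderOf_dvd_natCard _
  have htrM : ∀ t' ∈ (S : Subgroup G), t' ≠ 1 → ∃ m ∈ N S ⊓ M, m * t * m⁻¹ = t' := by
    intro t' ht' ht'1
    obtain ⟨g, hg, e⟩ := h.transitive htS ht1 ht' ht'1
    obtain ⟨⟨⟨m, hm⟩, ⟨z, hz⟩⟩, hmz⟩ := hcompl.2 g
    have hmz' : m * z = g := hmz
    rw [SetLike.mem_coe, hB] at hz
    obtain ⟨i, hzi⟩ := mem_zpowers_iff.1 hz
    have hzN : z ∈ N S := hzi ▸ zpow_mem hy i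
    refine ⟨m, mem_inf.2 ⟨?_, hm⟩, ?_⟩
    · rw [eq_mul_inv_of_mul_eq hmz']
      exact mul_mem hg (inv_mem hzN)
    · have hzt : Commute z t := hzi ▸ hyt.zpow_left i
      rw [← e, ← hmz', show m * z * t * (m * z)⁻¹ = m * (z * t * z⁻¹) * m⁻¹ by group, hzt.eq,
        mul_inv_cancel_right]
  have hcardM : P * Nat.card ↥(C S ⊓ M) = Nat.card ↥(N S ⊓ M) := by
    have h1 := h.card_stabilizer_mul htS ht1 (K := N S ⊓ M) inf_le_left htrM
    rw [h.card_S, Nat.add_sub_cancel] at h1
    rw [← h1]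
    congr 3
    refine le_antisymm (fun c hc => ?_) fun g hg => ?_
    · exact ⟨⟨h.C_le_N hc.1, hc.2⟩, mem_centralizer_singleton_iff.2
        (mem_centralizer_iff.1 hc.1 t htS).symm⟩
    · exact ⟨hcentM t htS ht1 g hg.1.2 (mem_centralizer_singleton_iff.1 hg.2), hg.1.2⟩
  have memN : ∀ g : M, g ∈ normalizer (((S : Subgroup G).subgroupOf M : Subgroup M) : Set M) ↔
      (g : G) ∈ N S := fun g => H1.TIElem.Hyp.mem_normalizer_subgroupOf hSM
  have memC : ∀ g : M, g ∈ centralizer (((S : Subgroup G).subgroupOf M : Subgroup M) : Set M) ↔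
      (g : G) ∈ C S := fun g => H1.TIElem.Hyp.mem_centralizer_subgroupOf hSM
  have hMn : M.Normal := by rw [hM]; infer_instance
  have hnn : normalizer (((S : Subgroup G).subgroupOf M : Subgroup M) : Set M) ≠ ⊤ := by
    intro htop
    refine h.not_normal (eq_top_iff.2 fun g _ => ?_)
    have hMN : M ≤ N S := fun m hm => (memN ⟨m, hm⟩).1 (htop ▸ mem_top _)
    obtain ⟨⟨⟨m, hm⟩, ⟨z, hz⟩⟩, hmz⟩ := hcompl.2 g
    have hmz' : m * z = g := hmz
    rw [SetLike.mem_coe, hB] at hz
    rw [← hmz']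
    exact mul_mem (hMN hm) ((zpowers_le.2 hy) hz)
  have hyp : H1.TIElem.Hyp ((S : Subgroup G).subgroupOf M) P := by
    refine
      { prime := h.prime, three := h.three, card_S := ?_, sq := ?_, cent := ?_, card_N := ?_,
        odd_index := ?_, not_normal := hnn, disjoint := ?_ }
    · rw [Nat.card_congr (subgroupOfEquivOfLe hSM).toEquiv, h.card_S]
    · intro s hs
      exact Subtype.ext (h.sq _ (mem_subgroupOf.1 hs))
    · intro s hs hs1 g hg
      exact (memC g).2 (hcentM _ (mem_subgroupOf.1 hs) (fun e => hs1 (Subtype.ext e)) g g.2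
        (congrArg Subtype.val hg.eq))
    · have e1 : normalizer (((S : Subgroup G).subgroupOf M : Subgroup M) : Set M) =
          (N S ⊓ M).subgroupOf M := by
        ext g; rw [memN, mem_subgroupOf]; exact ⟨fun hg => ⟨hg, g.2⟩, fun hg => hg.1⟩
      have e2 : centralizer (((S : Subgroup G).subgroupOf M : Subgroup M) : Set M) =
          (C S ⊓ M).subgroupOf M := by
        ext g; rw [memC, mem_subgroupOf]; exact ⟨fun hg => ⟨hg, g.2⟩, fun hg => hg.1⟩
      rw [e1, e2, Nat.card_congr (subgroupOfEquivOfLe inf_le_right).toEquiv,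
        Nat.card_congr (subgroupOfEquivOfLe inf_le_right).toEquiv, hcardM]
    · refine Nat.not_even_iff_odd.1 fun hev => S.not_dvd_index ?_
      rw [← relIndex_mul_index hSM]
      exact (even_iff_two_dvd.1 hev).mul_right _
    · intro r hr hr2 t' u' x y' h1 h2 h3 h4 h5 h6
      exact h.conj.realDisjoint r hr hr2 t' u' x y' (by rwa [orderOf_coe])
        (by rwa [orderOf_coe]) (by rwa [orderOf_coe]) (by rwa [orderOf_coe])
        (congrArg Subtype.val h5.eq) (congrArg Subtype.val h6)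
  haveI := hMn
  have hcoreM : Cfsg.oddCore M = ⊥ := by
    haveI := H1.pPrimeCore_normal' 2 M
    haveI : (Cfsg.pPrimeCore 2 M).Characteristic := H1.pPrimeCore_characteristic 2 M
    have h1 : ((Cfsg.pPrimeCore 2 M).map M.subtype).Normal := inferInstance
    have h2 : (Cfsg.pPrimeCore 2 M).map M.subtype = ⊥ := by
      haveI := h1
      refine normal_odd_eq_bot h.core ?_
      rw [card_map_of_injective M.subtype_injective]
      exact Nat.coprime_two_right.1 (H1.card_pPrimeCore_coprime 2 M)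
    exact (map_eq_bot_iff_of_injective _ M.subtype_injective).1 h2
  refine ⟨M, B, hMn, hcompl, ?_, hSM, exists_iso_PSL_of_hyp hyp hcoreM⟩
  -- the centraliser of `M`
  have hCM := centralizer_eq_of_hyp hyp hcoreM
  have hdis : centralizer (M : Set G) ⊓ M = ⊥ := by
    rw [eq_bot_iff_forall]
    intro z hz
    have hzS : z ∈ (S : Subgroup G) := by
      have h1 : (⟨z, hz.2⟩ : M) ∈
          centralizer (((S : Subgroup G).subgroupOf M : Subgroup M) : Set M) :=
        (memC _).2 (mem_centralizer_iff.2 fun s hs => mem_centralizer_iff.1 hz.1 s (hSM hs))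
      rw [hCM] at h1
      exact mem_subgroupOf.1 h1
    by_contra hz1
    obtain ⟨s, hs, hs1, hsz⟩ : ∃ s ∈ (S : Subgroup G), s ≠ 1 ∧ s ≠ z := by
      by_contra hno
      push_neg at hno
      have hle : (S : Subgroup G) ≤ zpowers z := fun s hs => by
        by_cases hs1 : s = 1
        · rw [hs1]; exact one_mem _
        · rw [hno s hs hs1]; exact mem_zpowers z
      have h1 := card_le_of_le hle
      rw [h.card_S, Nat.card_zpowers, h.orderOf_mem hzS hz1] at h1
      have := h.three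
      omega
    obtain ⟨a, ha, ha'⟩ := htrM z hzS hz1
    obtain ⟨c, hc, hc'⟩ := htrM s hs hs1
    refine hsz ?_
    rw [← hc', show c * t * c⁻¹ = (c * a⁻¹) * (a * t * a⁻¹) * (c * a⁻¹)⁻¹ by group, ha',
      mem_centralizer_iff.1 hz.1 _ (mul_mem hc.2 (inv_mem ha.2)), mul_inv_cancel_right]
  haveI : (centralizer (M : Set G)).Normal := inferInstance
  refine normal_odd_eq_bot h.core ?_
  refine (Nat.not_even_iff_odd.1 fun hev => ?_)
  obtain ⟨v, hv, hv2⟩ := H65.exists_two_mem hev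
  have hvM : v ∈ M := hprime' v fun hd => by
    rw [hv2] at hd
    exact h.btwo ((Nat.prime_dvd_prime_iff_eq h.bprime Nat.prime_two).1 hd)
  have : v ∈ centralizer (M : Set G) ⊓ M := ⟨hv, hvM⟩
  rw [hdis, mem_bot] at this
  rw [this, orderOf_one] at hv2
  omega

end Ext

end H1.EqConj
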