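import Cfsg.Agent.H1.EqConj.Facts
import Cfsg.Agent.S4025
import Cfsg.Agent.H16.OddOrder

/-!
An elementary abelian Sylow `2`-subgroup `S` in a group whose subgroups of equal order are
conjugate: the normaliser is transitive on `S \ {1}`, and `|N(S) : C(S)|`.
-/

set_option autoImplicit false
set_option linter.unusedSectionVars false
set_option linter.style.haveILetI false

namespace H1.EqConj

open Subgroup

universe u

variable {G : Type u} [Group G] [Finite G]

/-- The standing hypothesis: all same order subgroups conjugate and `S` elementary abelian. -/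
structure Elem (S : Sylow 2 G) : Prop where
  conj : EqOrderConj G
  sq : ∀ s ∈ (S : Subgroup G), s * s = 1

namespace Elem

variable {S : Sylow 2 G} (h : Elem S)

/-- The normaliser of `S`. -/
abbrev N (S : Sylow 2 G) : Subgroup G := normalizer ((S : Subgroup G) : Set G)

/-- The centraliser of `S`. -/
abbrev C (S : Sylow 2 G) : Subgroup G := centralizer ((S : Subgroup G) : Set G)

include h

theorem isMulCommutative : IsMulCommutative (S : Subgroup G) :=
  ⟨⟨fun a b => Subtype.ext (by
    have h3 := h.sq _ (mul_mem a.2 b.2)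
    show (a : G) * b = b * a
    calc (a : G) * b = ((a : G) * b)⁻¹ := eq_inv_of_mul_eq_one_left h3
      _ = b * a := by
        rw [mul_inv_rev, inv_eq_of_mul_eq_one_right (h.sq a a.2),
          inv_eq_of_mul_eq_one_right (h.sq b b.2)])⟩⟩

theorem S_le_C : (S : Subgroup G) ≤ C S := fun a ha => mem_centralizer_iff.2 fun b hb => by
  haveI := h.isMulCommutative
  exact setLike_mul_comm hb ha

theorem C_le_N : C S ≤ N S := centralizer_le_normalizer ((S : Subgroup G) : Set G)

theorem mem_N_of_commute {t g : G} (ht : t ∈ (S : Subgroup G)) (ht1 : t ≠ 1) (hg : Commute g t) :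
    g ∈ N S :=
  centralizer_le_normalizer_of h.conj.realDisjoint S h.sq ht ht1 hg

theorem orderOf_mem {t : G} (ht : t ∈ (S : Subgroup G)) (h1 : t ≠ 1) : orderOf t = 2 :=
  orderOf_eq_prime (by rw [pow_two]; exact h.sq t ht) h1

/-- The normaliser is transitive on the involutions of `S`. -/
theorem transitive {t t' : G} (ht : t ∈ (S : Subgroup G)) (ht1 : t ≠ 1)
    (ht' : t' ∈ (S : Subgroup G)) (ht'1 : t' ≠ 1) : ∃ k ∈ N S, k * t * k⁻¹ = t' := by
  haveI := h.isMulCommutative
  haveI : Fact (Nat.Prime 2) := ⟨Nat.prime_two⟩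
  obtain ⟨g, hg⟩ := h.conj (zpowers t) (zpowers t') (by
    rw [Nat.card_zpowers, Nat.card_zpowers, h.orderOf_mem ht ht1, h.orderOf_mem ht' ht'1])
  obtain ⟨k, hk, hk'⟩ :=
    Cfsg.Agent.S4025.conj_subgroups S (zpowers_le.2 ht) (zpowers_le.2 ht') hg
  refine ⟨k, hk, ?_⟩
  have hm : k * t * k⁻¹ ∈ zpowers t' := hk'.symm ▸ ⟨t, mem_zpowers t, rfl⟩
  obtain ⟨i, hi⟩ := mem_zpowers_iff.1 hm
  rw [zpow_eq_zpow_emod' i (h.sq t' ht' ▸ pow_two t' : t' ^ 2 = 1)] at hi
  rcases Int.emod_two_eq_zero_or_one i with e | e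
  · rw [show ((2 : ℕ) : ℤ) = 2 from rfl, e, zpow_zero] at hi
    exact absurd (conj_eq_one_iff.1 hi.symm) ht1
  · rw [show ((2 : ℕ) : ℤ) = 2 from rfl, e, zpow_one] at hi
    exact hi.symm

/-- Orbit and stabiliser on the involutions of `S`. -/
theorem card_stabilizer_mul {t : G} (ht : t ∈ (S : Subgroup G)) (ht1 : t ≠ 1) {K : Subgroup G}
    (hK : K ≤ N S) (htr : ∀ t' ∈ (S : Subgroup G), t' ≠ 1 → ∃ k ∈ K, k * t * k⁻¹ = t') :
    (Nat.card (S : Subgroup G) - 1) * Nat.card ↥(K ⊓ centralizer {t}) = Nat.card K := by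
  classical
  let f : K → {x : (S : Subgroup G) // x ≠ 1} := fun k =>
    ⟨⟨(k : G) * t * (k : G)⁻¹, (mem_normalizer_iff.1 (hK k.2) t).1 ht⟩,
      fun e => ht1 (conj_eq_one_iff.1 (congrArg Subtype.val e))⟩
  have hf : Function.Surjective f := by
    rintro ⟨⟨t', ht'⟩, ht'1⟩
    obtain ⟨k, hk, e⟩ := htr t' ht' fun e => ht'1 (Subtype.ext e)
    exact ⟨⟨k, hk⟩, Subtype.ext (Subtype.ext e)⟩
  let D := (K ⊓ centralizer {t}).subgroupOf K
  have hrel : ∀ a b : K, f a = f b ↔ a⁻¹ * b ∈ D := by
    intro a b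
    rw [mem_subgroupOf, Subgroup.mem_inf, mem_centralizer_singleton_iff, coe_mul, coe_inv]
    constructor
    · intro e
      have e' : (a : G) * t * (a : G)⁻¹ = (b : G) * t * (b : G)⁻¹ :=
        congrArg (fun x : {x : (S : Subgroup G) // x ≠ 1} => ((x : (S : Subgroup G)) : G)) e
      refine ⟨mul_mem (inv_mem a.2) b.2, ?_⟩
      calc (a : G)⁻¹ * b * t = (a : G)⁻¹ * ((b : G) * t * (b : G)⁻¹) * b := by group
        _ = (a : G)⁻¹ * ((a : G) * t * (a : G)⁻¹) * b := by rw [e']
        _ = t * ((a : G)⁻¹ * b) := by group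
    · rintro ⟨-, e⟩
      refine Subtype.ext (Subtype.ext ?_)
      show (a : G) * t * (a : G)⁻¹ = (b : G) * t * (b : G)⁻¹
      calc (a : G) * t * (a : G)⁻¹ = (a : G) * (t * ((a : G)⁻¹ * b)) * (b : G)⁻¹ := by group
        _ = (a : G) * ((a : G)⁻¹ * b * t) * (b : G)⁻¹ := by rw [e]
        _ = (b : G) * t * (b : G)⁻¹ := by group
  let F : K ⧸ D → {x : (S : Subgroup G) // x ≠ 1} :=
    Quotient.lift f fun a b hab => (hrel a b).2 (QuotientGroup.leftRel_apply.1 hab)
  have hF : Function.Bijective F := by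
    refine ⟨?_, fun x => ?_⟩
    · rintro ⟨a⟩ ⟨b⟩ e
      exact Quotient.sound (QuotientGroup.leftRel_apply.2 ((hrel a b).1 e))
    · obtain ⟨k, rfl⟩ := hf x
      exact ⟨QuotientGroup.mk k, rfl⟩
  have hc : Nat.card (K ⧸ D) = Nat.card (S : Subgroup G) - 1 := by
    rw [Nat.card_congr (Equiv.ofBijective F hF)]
    haveI := Fintype.ofFinite (S : Subgroup G)
    rw [Nat.card_eq_fintype_card, Nat.card_eq_fintype_card, Fintype.card_subtype_compl,
      Fintype.card_subtype_eq]
  rw [← hc, ← Nat.card_congr (subgroupOfEquivOfLe (inf_le_left : K ⊓ centralizer {t} ≤ K)).toEquiv]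
  exact ((K ⊓ centralizer {t}).subgroupOf K).card_eq_card_quotient_mul_card_subgroup.symm

theorem C_inf_le {t : G} (ht : t ∈ (S : Subgroup G)) : C S ≤ N S ⊓ centralizer {t} := fun _ hc =>
  ⟨h.C_le_N hc, mem_centralizer_singleton_iff.2 (mem_centralizer_iff.1 hc t ht).symm⟩

/-- A normal subgroup of odd order of `N(S)` centralises `S`. -/
theorem le_C_of_odd (M : Subgroup (N S)) [M.Normal] (hM : Odd (Nat.card M)) :
    M.map (N S).subtype ≤ C S := by
  rintro _ ⟨m, hm, rfl⟩
  refine mem_centralizer_iff.2 fun s hs => ?_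
  have hdis : Disjoint ((S : Subgroup G).subgroupOf (N S)) M := by
    refine disjoint_of_coprime_natCard ?_
    rw [Nat.card_congr (subgroupOfEquivOfLe le_normalizer).toEquiv, S.card_eq_multiplicity]
    exact (Nat.coprime_two_left.2 hM).pow_left _
  exact congrArg Subtype.val (commute_of_normal_of_disjoint _ M
    normal_in_normalizer inferInstance hdis ⟨s, le_normalizer hs⟩ m (mem_subgroupOf.2 hs) hm).eq

/-- `C(S)` is `S` times the largest normal subgroup of odd order of `N(S)`. -/
theorem card_C : Nat.card (C S) =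
    Nat.card (S : Subgroup G) * Nat.card (Cfsg.pPrimeCore 2 (N S)) := by
  classical
  haveI : Fact (Nat.Prime 2) := ⟨Nat.prime_two⟩
  set K := Cfsg.pPrimeCore 2 (N S) with hK
  have hKodd : Odd (Nat.card K) :=
    Nat.coprime_two_right.1 (H1.card_pPrimeCore_coprime 2 (N S))
  have hKC := h.le_C_of_odd K hKodd
  let T : Sylow 2 (C S) := S.subtype h.S_le_C
  have hT : (T : Subgroup (C S)) = (S : Subgroup G).subgroupOf (C S) := rfl
  have hNC : normalizer ((T : Subgroup (C S)) : Set (C S)) ≤
      centralizer ((T : Subgroup (C S)) : Set (C S)) := fun c _ =>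
    mem_centralizer_iff.2 fun s hs => Subtype.ext (by
      have hs' : (s : G) ∈ (S : Subgroup G) := mem_subgroupOf.1 hs
      exact mem_centralizer_iff.1 c.2 s hs')
  have hcompl := MonoidHom.ker_transferSylow_isComplement' T hNC
  set M := (MonoidHom.transferSylow T hNC).ker with hM
  have hTc : Nat.card (T : Subgroup (C S)) = Nat.card (S : Subgroup G) := by
    rw [hT]; exact Nat.card_congr (subgroupOfEquivOfLe h.S_le_C).toEquiv
  have hMidx : Nat.card (C S) = Nat.card (S : Subgroup G) * Nat.card M := by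
    rw [← hcompl.card_mul_card, hTc, mul_comm]
  have hModd : Odd (Nat.card M) := by
    rw [← Nat.coprime_two_left]
    refine (Nat.Prime.coprime_iff_not_dvd Nat.prime_two).2 fun hd => ?_
    rw [← hcompl.index_eq_card] at hd
    exact T.not_dvd_index hd
  -- the elements of odd order of `C(S)`
  have hMmem : ∀ c : C S, c ∈ M ↔ Odd (orderOf c) := by
    intro c
    constructor
    · exact fun hc => hModd.of_dvd_nat
        (by rw [← Subgroup.orderOf_mk (H := M) c hc]; exact orderOf_dvd_natCard _)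
    · intro hc
      rw [hM, MonoidHom.mem_ker, ← orderOf_eq_one_iff]
      refine Nat.eq_one_of_dvd_coprimes ?_ (orderOf_map_dvd _ c)
        (orderOf_dvd_natCard (MonoidHom.transferSylow T hNC c))
      rw [T.card_eq_multiplicity]
      exact ((Nat.coprime_two_left.2 hc).pow_left _).symm
  set M' : Subgroup (N S) := (M.map (C S).subtype).subgroupOf (N S) with hM'
  haveI : M'.Normal := ⟨fun x hx g => by
    obtain ⟨c, hc, hcx⟩ := mem_subgroupOf.1 hx
    have hgc : (g : G) * c * (g : G)⁻¹ ∈ C S := by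
      refine mem_centralizer_iff.2 fun s hs => ?_
      have h1 : (g : G)⁻¹ * s * g ∈ (S : Subgroup G) := by
        have := (mem_normalizer_iff.1 (inv_mem g.2) s).1 hs
        simpa using this
      have h2 := mem_centralizer_iff.1 c.2 _ h1
      calc s * ((g : G) * c * (g : G)⁻¹) = g * (((g : G)⁻¹ * s * g) * c) * (g : G)⁻¹ := by group
        _ = g * ((c : G) * ((g : G)⁻¹ * s * g)) * (g : G)⁻¹ := by rw [h2]
        _ = _ := by group
    refine mem_subgroupOf.2 ⟨⟨_, hgc⟩, (hMmem _).2 ?_, ?_⟩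
    · rw [Subgroup.orderOf_mk, show orderOf ((g : G) * c * (g : G)⁻¹) = orderOf (c : G) from
        orderOf_injective (MulAut.conj (g : G)).toMonoidHom (MulAut.conj (g : G)).injective c,
        orderOf_coe]
      exact (hMmem c).1 hc
    · show (g : G) * c * (g : G)⁻¹ = ((g * x * g⁻¹ : N S) : G)
      rw [coe_mul, coe_mul, coe_inv, ← hcx]
      rfl⟩
  have hM'c : Nat.card M' = Nat.card M := by
    rw [hM', Nat.card_congr (subgroupOfEquivOfLe ((map_subtype_le M).trans h.C_le_N)).toEquiv,
      card_map_of_injective (C S).subtype_injective]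
  have hle : M' ≤ K := H1.le_pPrimeCore (Nat.coprime_two_right.2 (by rw [hM'c]; exact hModd))
  have h1 : Nat.card M ∣ Nat.card K := hM'c ▸ card_dvd_of_le hle
  have h2 : Nat.card K ∣ Nat.card M := by
    set K' := (K.map (N S).subtype).subgroupOf (C S) with hK'
    have hK'le : K' ≤ M := fun c hc => (hMmem c).2 (by
      obtain ⟨k, hk, hkc⟩ := mem_subgroupOf.1 hc
      rw [← orderOf_coe, ← hkc, coe_subtype, orderOf_coe]
      exact hKodd.of_dvd_nat
        (by rw [← Subgroup.orderOf_mk (H := K) k hk]; exact orderOf_dvd_natCard _))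
    have := card_dvd_of_le hK'le
    rwa [hK', Nat.card_congr (subgroupOfEquivOfLe hKC).toEquiv,
      card_map_of_injective (N S).subtype_injective] at this
  rw [hMidx, Nat.dvd_antisymm h1 h2]

theorem card_N_of_quotient {m : ℕ}
    (hm : Nat.card (N S ⧸ Cfsg.pPrimeCore 2 (N S)) = m * Nat.card (S : Subgroup G)) :
    Nat.card (N S) = m * Nat.card (C S) := by
  rw [(Cfsg.pPrimeCore 2 (N S)).card_eq_card_quotient_mul_card_subgroup, hm, h.card_C, mul_assoc]

/-- The case `|S| = 4`. -/
theorem card_N_four (h4 : Nat.card (S : Subgroup G) = 4) :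
    Nat.card (N S) = 3 * Nat.card (C S) := by
  classical
  obtain ⟨t, ht, ht1⟩ : ∃ t ∈ (S : Subgroup G), t ≠ 1 := by
    haveI : Nontrivial (S : Subgroup G) := Finite.one_lt_card_iff_nontrivial.1 (by omega)
    obtain ⟨⟨x, hx⟩, hx1⟩ := exists_ne (1 : (S : Subgroup G))
    exact ⟨x, hx, fun e => hx1 (Subtype.ext e)⟩
  have horb := h.card_stabilizer_mul ht ht1 le_rfl (fun t' ht' ht'1 => h.transitive ht ht1 ht' ht'1)
  let φ : N S →* Equiv.Perm {x : (S : Subgroup G) // x ≠ 1} :=
    MonoidHom.mk' (fun g => ((S : Subgroup G).normalizerMonoidHom g).toEquiv.subtypeEquiv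
      (fun x => by simp)) (fun a b => Equiv.ext fun x => Subtype.ext (by
        show (S : Subgroup G).normalizerMonoidHom (a * b) x.1 = _
        rw [map_mul]
        rfl))
  have hker : φ.ker = (C S).subgroupOf (N S) := by
    ext g
    rw [MonoidHom.mem_ker, mem_subgroupOf, mem_centralizer_iff]
    constructor
    · intro e s hs
      by_cases hs1 : s = 1
      · rw [hs1, one_mul, mul_one]
      · have h1 := congrArg (fun f : Equiv.Perm {x : (S : Subgroup G) // x ≠ 1} =>
          ((f ⟨⟨s, hs⟩, fun e => hs1 (congrArg Subtype.val e)⟩ : (S : Subgroup G)) : G)) e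
        exact (mul_inv_eq_iff_eq_mul.1 h1).symm
    · intro e
      refine Equiv.ext fun x => Subtype.ext (Subtype.ext ?_)
      show (g : G) * ((x : (S : Subgroup G)) : G) * (g : G)⁻¹ = _
      rw [← e _ (x : (S : Subgroup G)).2, mul_inv_cancel_right]
      rfl
  have hidx : φ.ker.index ∣ 6 := by
    rw [index_ker]
    refine (card_subgroup_dvd_card _).trans (dvd_of_eq ?_)
    haveI := Fintype.ofFinite (S : Subgroup G)
    rw [Nat.card_eq_fintype_card, Fintype.card_perm, Fintype.card_subtype_compl,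
      Fintype.card_subtype_eq, ← Nat.card_eq_fintype_card, h4]
    rfl
  have hmul := φ.ker.index_mul_card
  rw [hker, Nat.card_congr (subgroupOfEquivOfLe h.C_le_N).toEquiv] at hmul
  rw [hker] at hidx
  set m := ((C S).subgroupOf (N S)).index with hm
  have hodd : Odd m := by
    refine Nat.not_even_iff_odd.1 fun hev => ?_
    have h1 : 2 ∣ (C S).index := by
      rw [← relIndex_mul_index h.C_le_N]
      exact (even_iff_two_dvd.1 hev).mul_right _
    exact S.not_dvd_index (h1.trans (index_dvd_of_le h.S_le_C))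
  have h3 : 3 ∣ m := by
    rw [h4] at horb
    obtain ⟨c, hc⟩ := card_dvd_of_le (h.C_inf_le ht)
    refine ⟨c, Nat.eq_of_mul_eq_mul_right (Nat.card_pos (α := C S)) ?_⟩
    rw [hmul, ← horb, hc, show 4 - 1 = 3 from rfl]
    ring
  have hm3 : m = 3 := by
    have := Nat.le_of_dvd (by norm_num) hidx
    obtain ⟨k, hk⟩ := hodd
    interval_cases m <;> omega
  rw [← hmul, hm3]

end Elem

end H1.EqConj
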