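import Cfsg.Agent.H1.EqConj.ElementaryCase
import Cfsg.Agent.H2.RegularSolvable
import Cfsg.Agent.H85.BrauerSuzuki
import Cfsg.Agent.S3378

/-!
Groups with conjugate same-order subgroups, no normal subgroup of odd order, and cyclic or
quaternion Sylow `2`-subgroups.
-/

set_option autoImplicit false
set_option linter.unusedSectionVars false
set_option linter.style.haveILetI false

namespace H1.EqConj

open Subgroup H2 H58.RegLin

universe u

variable {G : Type u} [Group G] [Finite G]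

/-- A cyclic Sylow `2`-subgroup and no normal subgroup of odd order. -/
theorem isPGroup_of_cyclic (T : Sylow 2 G) [IsCyclic (T : Subgroup G)] (hO : Cfsg.oddCore G = ⊥) :
    IsCyclic G ∧ IsPGroup 2 G := by
  haveI : Fact (Nat.Prime 2) := ⟨Nat.prime_two⟩
  suffices htop : (T : Subgroup G) = ⊤ by
    have e : (T : Subgroup G) ≃* G := (MulEquiv.subgroupCongr htop).trans topEquiv
    exact ⟨isCyclic_of_surjective e.toMonoidHom e.surjective, T.isPGroup'.of_equiv e⟩
  by_cases hev : 2 ∣ Nat.card G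
  · have hmin : 2 = (Nat.card G).minFac := ((Nat.minFac_eq_two_iff _).2 hev).symm
    have hcompl := MonoidHom.ker_transferSylow_isComplement' T
      ((inferInstance : IsCyclic (T : Subgroup G)).normalizer_le_centralizer hmin.symm)
    set O := (MonoidHom.transferSylow T
      ((inferInstance : IsCyclic (T : Subgroup G)).normalizer_le_centralizer hmin.symm)).ker with hO'
    haveI : O.Normal := by rw [hO']; infer_instance
    have hbot := normal_odd_eq_bot hO (N := O) (by
      refine Nat.not_even_iff_odd.1 fun he => T.not_dvd_index ?_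
      rw [hcompl.index_eq_card]
      exact even_iff_two_dvd.1 he)
    rw [hbot] at hcompl
    exact isComplement'_bot_left.1 hcompl
  · have hbot := normal_odd_eq_bot hO (N := (⊤ : Subgroup G))
      (by rw [card_top]; exact Nat.odd_iff.2 (Nat.two_dvd_ne_zero.1 hev))
    exact le_antisymm le_top (hbot ▸ bot_le)

theorem q8_square : ∀ x : QuaternionGroup 2, x * x * (x * x) = 1 := by decide +kernel

theorem q8_exists_involution : ∃ x : QuaternionGroup 2, x * x = 1 ∧ x ≠ 1 := by decide +kernel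

/-- A group of order `24` with quaternion Sylow `2`-subgroup mapping onto `A₄`. -/
theorem sl23_of_twentyFour (hQ : ∀ P : Sylow 2 G, Nonempty ((P : Subgroup G) ≃* QuaternionGroup 2))
    (f₀ : G →* alternatingGroup (Fin 4))
    (hf₀ : Function.Surjective f₀) (h24 : Nat.card G = 24) :
    Nonempty (G ≃* Matrix.SpecialLinearGroup (Fin 2) (ZMod 3)) := by
  classical
  haveI : Fact (Nat.Prime 2) := ⟨Nat.prime_two⟩
  haveI : Fact (Nat.Prime 3) := ⟨by norm_num⟩
  have hN : Nat.card f₀.ker = 2 := by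
    have h := f₀.ker.card_mul_index
    rw [index_ker_of_surjective f₀ hf₀, card_alt_four, h24] at h
    omega
  have hNp : IsPGroup 2 f₀.ker := IsPGroup.of_card (n := 1) (by rw [hN, pow_one])
  obtain ⟨P, hNP⟩ := hNp.exists_le_sylow
  obtain ⟨e⟩ := hQ P
  have hPc : Nat.card (P : Subgroup G) = 8 := by
    rw [Nat.card_congr e.toEquiv, Nat.card_eq_fintype_card, QuaternionGroup.card]
  -- the image of `P`
  have hPi : (P : Subgroup G).index = 3 := by
    have h := (P : Subgroup G).card_mul_index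
    rw [hPc, h24] at h
    omega
  set W := (P : Subgroup G).map f₀ with hW
  have hWc : Nat.card W = 4 := by
    have h := W.card_mul_index
    rw [hW, Subgroup.index_map_eq _ hf₀ hNP, hPi, card_alt_four] at h
    rw [hW]; omega
  have hWeq : ∀ x : alternatingGroup (Fin 4), x ∈ W ↔ x * x = 1 := by
    have hsub : (W : Set (alternatingGroup (Fin 4))) ⊆
        ↑(Finset.univ.filter fun x : alternatingGroup (Fin 4) => x * x = 1) := by
      intro x hx
      rw [Finset.coe_filter]
      refine ⟨Finset.mem_univ _, alt_four_sq x ?_⟩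
      have h := orderOf_dvd_iff_pow_eq_one.mp (Subgroup.orderOf_dvd_natCard W hx)
      rwa [hWc] at h
    have heq := Set.eq_of_subset_of_ncard_le hsub (by
      rw [Set.ncard_coe_finset, alt_four_count, ← Nat.card_coe_set_eq]
      exact hWc.ge)
    intro x
    rw [← SetLike.mem_coe, heq]
    simp
  have hPmem : ∀ g : G, g ∈ (P : Subgroup G) ↔ f₀ g * f₀ g = 1 := by
    intro g
    rw [← hWeq, hW]
    refine ⟨fun hg => ⟨g, hg, rfl⟩, ?_⟩
    rintro ⟨y, hy, hyg⟩
    have h1 : y⁻¹ * g ∈ (P : Subgroup G) := hNP (by rw [MonoidHom.mem_ker, map_mul, map_inv, hyg, inv_mul_cancel])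
    simpa using (P : Subgroup G).mul_mem hy h1
  have hPn : ∀ g x : G, x ∈ (P : Subgroup G) → g * x * g⁻¹ ∈ (P : Subgroup G) := by
    intro g x hx
    rw [hPmem] at hx ⊢
    rw [← map_mul, show g * x * g⁻¹ * (g * x * g⁻¹) = g * (x * x) * g⁻¹ by group, map_mul, map_mul,
      map_mul, hx, mul_one, ← map_mul, mul_inv_cancel, map_one]
  obtain ⟨t, ht⟩ := exists_prime_orderOf_dvd_card' (G := G) 3 (by rw [h24]; norm_num)
  have ht3 : t * t * t = 1 := by rw [← pow_three', ← ht, pow_orderOf_eq_one]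
  have hft3 : f₀ t * f₀ t * f₀ t = 1 := by rw [← map_mul, ← map_mul, ht3, map_one]
  have hft : f₀ t ≠ 1 := by
    intro h
    have h1 := Subgroup.orderOf_dvd_natCard f₀.ker (MonoidHom.mem_ker.mpr h)
    rw [ht, hN] at h1
    omega
  obtain ⟨x0, hx0, hx01⟩ : ∃ x : alternatingGroup (Fin 4), x * x = 1 ∧ x ≠ 1 := by decide +kernel
  obtain ⟨a, rfl⟩ := hf₀ x0
  have haP : a ∈ (P : Subgroup G) := (hPmem a).mpr hx0
  obtain ⟨z, hz⟩ := exists_prime_orderOf_dvd_card' (G := f₀.ker) 2 (by rw [hN])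
  have hinv : ∀ y : (P : Subgroup G), y * y = 1 → f₀ y = 1 := by
    intro y hy
    by_contra hne
    have hy1 : y ≠ 1 := fun h => hne (by rw [h, OneMemClass.coe_one, map_one])
    have hz1 : (⟨z.1, hNP z.2⟩ : (P : Subgroup G)) ≠ 1 := fun h => by
      have : z = 1 := Subtype.ext (congrArg (fun w : (P : Subgroup G) => (w : G)) h)
      rw [this, orderOf_one] at hz
      omega
    have hz2 : (⟨z.1, hNP z.2⟩ : (P : Subgroup G)) * ⟨z.1, hNP z.2⟩ = 1 := Subtype.ext (by
      have h := pow_orderOf_eq_one z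
      rw [hz, pow_two] at h
      simpa using congrArg Subtype.val h)
    have h := H5.q8_involution (e y) (e ⟨z.1, hNP z.2⟩) (fun h => hy1 (e.injective (by rw [h, map_one])))
      (by rw [← map_mul, hy, map_one]) (fun h => hz1 (e.injective (by rw [h, map_one])))
      (by rw [← map_mul, hz2, map_one])
    apply hne
    rw [congrArg (fun w : (P : Subgroup G) => (w : G)) (e.injective h)]
    exact z.2
  -- elements of `P` outside the kernel
  have hord : ∀ y : G, (hy : y ∈ (P : Subgroup G)) → f₀ y ≠ 1 → e ⟨y, hy⟩ * e ⟨y, hy⟩ ≠ 1 := by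
    intro y hy hfy h
    rw [← map_mul, ← map_one e] at h
    exact hfy (hinv ⟨y, hy⟩ (e.injective h))
  set b := t * a * t⁻¹ with hb
  have hbP : b ∈ (P : Subgroup G) := hPn t a haP
  set c := t * b * t⁻¹ with hc
  have hcP : c ∈ (P : Subgroup G) := hPn t b hbP
  obtain ⟨hy1, hy2⟩ := alt_four_facts (f₀ a) (f₀ t) hx0 hx01 hft3 hft
  have hfa : (f₀ a)⁻¹ = f₀ a := inv_eq_of_mul_eq_one_right hx0
  have hfb : f₀ b ≠ f₀ a := by rw [hb, map_mul, map_mul, map_inv]; exact hy1
  have hfc : f₀ c ≠ f₀ a := by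
    rw [hc, hb, map_mul, map_mul, map_mul, map_mul, map_inv]
    intro h
    refine hy2 (Eq.trans ?_ h)
    group
  have hfcb : f₀ c ≠ f₀ b := fun h => hfb (by
    have h' : f₀ t * f₀ b * (f₀ t)⁻¹ = f₀ t * f₀ a * (f₀ t)⁻¹ := by
      rw [← map_inv, ← map_mul, ← map_mul, ← map_mul, ← map_mul, ← hc, ← hb]; exact h
    exact mul_left_cancel (mul_right_cancel h'))
  have hfb1 : f₀ b ≠ 1 := by
    rw [hb, map_mul, map_mul, map_inv]
    exact fun h => hx01 (mul_eq_left.mp (mul_inv_eq_one.mp h))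
  have hfc1 : f₀ c ≠ 1 := by
    rw [hc, map_mul, map_mul, map_inv]
    exact fun h => hfb1 (mul_eq_left.mp (mul_inv_eq_one.mp h))
  have hneq : ∀ u v : G, (hu : u ∈ (P : Subgroup G)) → (hv : v ∈ (P : Subgroup G)) → f₀ u ≠ f₀ v →
      f₀ v * f₀ v = 1 → e ⟨u, hu⟩ ≠ e ⟨v, hv⟩ ∧ e ⟨u, hu⟩ ≠ (e ⟨v, hv⟩)⁻¹ := by
    intro u v hu hv huv hv2
    refine ⟨fun h => huv (congrArg (fun w : (P : Subgroup G) => f₀ (w : G)) (e.injective h)), fun h => huv ?_⟩
    rw [← map_inv] at h
    have h1 := congrArg (fun w : (P : Subgroup G) => f₀ (w : G)) (e.injective h)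
    simpa [map_inv, inv_eq_of_mul_eq_one_right hv2] using h1
  have hfb2 : f₀ b * f₀ b = 1 := (hPmem b).mp hbP
  obtain ⟨hba, hba'⟩ := hneq b a hbP haP hfb hx0
  obtain ⟨hca, hca'⟩ := hneq c a hcP haP hfc hx0
  obtain ⟨hcb, hcb'⟩ := hneq c b hcP hbP hfcb hfb2
  have hea := hord a haP hx01
  have heb := hord b hbP hfb1
  have hec := hord c hcP hfc1
  obtain ⟨hb2, hbab, htab⟩ := H5.q8_table (e ⟨a, haP⟩) (e ⟨b, hbP⟩) hea hba hba' heb
  obtain ⟨hc2, hcac, -⟩ := H5.q8_table (e ⟨a, haP⟩) (e ⟨c, hcP⟩) hea hca hca' hec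
  have back : ∀ u v : (P : Subgroup G), e u = e v → (u : G) = v := fun u v h =>
    congrArg Subtype.val (e.injective h)
  have ha4 : orderOf a = 4 := by
    rw [show (4 : ℕ) = 2 ^ (1 + 1) from rfl]
    refine orderOf_eq_prime_pow ?_ ?_
    · intro h
      rw [pow_one, pow_two] at h
      exact hea (by rw [← map_mul, ← map_one e]; exact congrArg e (Subtype.ext h))
    · have h := back (⟨a, haP⟩ ^ 4) 1 (by rw [map_pow, H5.q8_pow_four, map_one])
      simpa using h
  obtain ⟨t', ht', ht'P, hrel⟩ : ∃ t' : G, orderOf t' = 3 ∧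
      (Subgroup.closure ({a, t'} : Set G) = Subgroup.closure ({a, t} : Set G)) ∧ H5.SL23Rel a t' := by
    have hnot : ∀ d : G, (hd : d ∈ (P : Subgroup G)) →
        e ⟨d, hd⟩ * e ⟨a, haP⟩ * (e ⟨d, hd⟩)⁻¹ = (e ⟨a, haP⟩)⁻¹ → d ∉ Subgroup.zpowers a := by
      intro d hd hdd hmem
      obtain ⟨i, rfl⟩ := Subgroup.mem_zpowers_iff.mp hmem
      have h1 : e ⟨a ^ i, hd⟩ = e ⟨a, haP⟩ ^ i := by
        rw [← map_zpow]; exact congrArg e (Subtype.ext (by simp))
      rw [h1] at hdd
      rw [← zpow_add_one, ← zpow_neg, ← zpow_add, show i + 1 + -i = 1 by ring, zpow_one] at hdd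
      exact hea (by nth_rewrite 2 [hdd]; exact mul_inv_cancel _)
    rcases htab (e ⟨c, hcP⟩) hec hca hca' hcb hcb' with h | h
    · refine ⟨t, ht, rfl, ha4, ht, hnot b hbP hbab, ?_, ?_, ?_⟩
      · exact back (⟨b, hbP⟩ * ⟨b, hbP⟩) (⟨a, haP⟩ * ⟨a, haP⟩) (by rw [map_mul, map_mul]; exact hb2)
      · exact back (⟨b, hbP⟩ * ⟨a, haP⟩ * ⟨b, hbP⟩⁻¹) (⟨a, haP⟩⁻¹)
          (by rw [map_mul, map_mul, map_inv, map_inv]; exact hbab)
      · exact back ⟨c, hcP⟩ (⟨a, haP⟩ * ⟨b, hbP⟩) (by rw [map_mul]; exact h)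
    · have htinv : t⁻¹ = t * t := inv_eq_of_mul_eq_one_left ht3
      have hc' : t⁻¹ * a * (t⁻¹)⁻¹ = c := by
        rw [hc, hb, show t * (t * a * t⁻¹) * t⁻¹ = (t * t) * a * (t * t)⁻¹ by group, ← htinv]
      have haba : a * b * a = b := by
        simpa using back (⟨a, haP⟩ * ⟨b, hbP⟩ * ⟨a, haP⟩) ⟨b, hbP⟩
          (by rw [map_mul, map_mul]; exact (H5.q8_aba _ _ hea hb2 hbab).1)
      have hcba : c = b * a := by
        simpa using back ⟨c, hcP⟩ (⟨b, hbP⟩ * ⟨a, haP⟩) (by rw [map_mul]; exact h)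
      refine ⟨t⁻¹, by rw [orderOf_inv, ht], ?_, ha4, by rw [orderOf_inv, ht], ?_, ?_, ?_, ?_⟩
      · refine le_antisymm (Subgroup.closure_le _ |>.mpr ?_) (Subgroup.closure_le _ |>.mpr ?_)
        · rintro x (rfl | hx)
          · exact Subgroup.subset_closure (Or.inl rfl)
          · rw [Set.mem_singleton_iff.mp hx]
            exact Subgroup.inv_mem _ (Subgroup.subset_closure (Or.inr rfl))
        · rintro x (rfl | hx)
          · exact Subgroup.subset_closure (Or.inl rfl)
          · rw [Set.mem_singleton_iff.mp hx]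
            simpa using Subgroup.inv_mem _ (Subgroup.subset_closure (Or.inr rfl) :
              t⁻¹ ∈ Subgroup.closure ({a, t⁻¹} : Set G))
      · rw [hc']; exact hnot c hcP hcac
      · rw [hc']
        simpa using back (⟨c, hcP⟩ * ⟨c, hcP⟩) (⟨a, haP⟩ * ⟨a, haP⟩) (by rw [map_mul, map_mul]; exact hc2)
      · rw [hc']
        simpa using back (⟨c, hcP⟩ * ⟨a, haP⟩ * ⟨c, hcP⟩⁻¹) (⟨a, haP⟩⁻¹)
          (by rw [map_mul, map_mul, map_inv, map_inv]; exact hcac)
      · rw [hc']
        have h1 : t⁻¹ * c * (t⁻¹)⁻¹ = b := by rw [hc]; group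
        rw [h1, hcba, ← mul_assoc]
        exact haba.symm
  -- generation
  have hgen : Subgroup.closure ({a, t'} : Set G) = ⊤ := by
    obtain ⟨-, -, hb', hrel2, hrel3, -⟩ := hrel
    obtain ⟨eQ⟩ := H67.quat_iso (k := 2) a (t' * a * t'⁻¹) (by rw [hrel2, sq]) hrel3 (by rw [ha4]) hb'
    set S := Subgroup.closure ({a, t'} : Set G) with hS
    have htS : t' ∈ S := Subgroup.subset_closure (Or.inr rfl)
    have haS : a ∈ S := Subgroup.subset_closure (Or.inl rfl)
    have hQS : Subgroup.closure ({a, t' * a * t'⁻¹} : Set G) ≤ S := by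
      rw [Subgroup.closure_le]
      rintro x (rfl | rfl)
      · exact haS
      · exact S.mul_mem (S.mul_mem htS haS) (S.inv_mem htS)
    have h8 : 8 ∣ Nat.card S := by
      have := Subgroup.card_dvd_of_le hQS
      rwa [Nat.card_congr eQ.toEquiv, Nat.card_eq_fintype_card, QuaternionGroup.card] at this
    have h3' : 3 ∣ Nat.card S := ht' ▸ Subgroup.orderOf_dvd_natCard S htS
    refine Subgroup.eq_top_of_le_card _ ?_
    rw [h24]
    exact Nat.le_of_dvd Nat.card_pos
      (Nat.Coprime.mul_dvd_of_dvd_of_dvd (by norm_num : Nat.Coprime 8 3) h8 h3')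
  obtain ⟨a₂, t₂, hrel2, hgen2, hc24⟩ := H5.exists_sl23Rel
  exact H5.mulEquiv_of_sl23Rel hrel hrel2 h24 hc24 hgen hgen2

/-- The quaternion case. -/
theorem quaternion_case (hC : EqOrderConj G) (hO : Cfsg.oddCore G = ⊥) (Q : Sylow 2 G)
    (e : (Q : Subgroup G) ≃* QuaternionGroup 2) :
    Nonempty (G ≃* Matrix.SpecialLinearGroup (Fin 2) (ZMod 3)) ∨
      Nonempty (G ≃* Matrix.SpecialLinearGroup (Fin 2) (ZMod 5)) := by
  classical
  haveI : Fact (Nat.Prime 2) := ⟨Nat.prime_two⟩
  have hQc : Nat.card (Q : Subgroup G) = 8 := by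
    rw [Nat.card_congr e.toEquiv, Nat.card_eq_fintype_card, QuaternionGroup.card]
  have hall : ∀ P : Sylow 2 G, Nonempty ((P : Subgroup G) ≃* QuaternionGroup 2) :=
    fun P => ⟨(P.equiv Q).trans e⟩
  obtain ⟨x, hx, hx1⟩ := q8_exists_involution
  set zQ : (Q : Subgroup G) := e.symm x with hzQ
  set z : G := (zQ : G) with hz
  have hz2 : orderOf z = 2 := by
    rw [hz, orderOf_coe, hzQ, MulEquiv.orderOf_eq]
    exact orderOf_eq_prime (by rw [pow_two]; exact hx) hx1
  have huniq : ∀ w ∈ (Q : Subgroup G), w * w = 1 → w ≠ 1 → w = z := by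
    intro w hw hw2 hw1
    have h1 := H5.q8_involution (e ⟨w, hw⟩) x
      (fun e1 => hw1 (congrArg Subtype.val (e.injective (e1.trans (map_one e).symm))))
      (by rw [← map_mul, show (⟨w, hw⟩ : (Q : Subgroup G)) * ⟨w, hw⟩ = 1 from Subtype.ext hw2,
        map_one]) hx1 hx
    rw [hz, hzQ, ← h1, MulEquiv.symm_apply_apply]
  have hiso := H85.isolated_of_sylow Q hz2 zQ.2 fun g hg => huniq _ hg
    (H67.invol_sq (H67.invol_conj hz2 g)) (fun e1 => by
      rw [conj_eq_one_iff] at e1; rw [e1, orderOf_one] at hz2; omega)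
  have hzc : ∀ g : G, g * z = z * g := fun g => by
    have h1 := H85.zStar hiso g
    rw [show Cfsg.pPrimeCore 2 G = ⊥ from hO, mem_bot] at h1
    exact (mul_inv_eq_iff_eq_mul.1 (mul_inv_eq_one.1 h1)).symm
  set Z := zpowers z with hZ
  have hZc : Nat.card Z = 2 := by rw [hZ, Nat.card_zpowers, hz2]
  have hZcen : Z ≤ center G := zpowers_le.2 (mem_center_iff.2 hzc)
  haveI : Z.Normal := ⟨fun w hw g => by
    rw [mem_center_iff.1 (hZcen hw) g, mul_inv_cancel_right]; exact hw⟩
  set π := QuotientGroup.mk' Z with hπ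
  have hπs : Function.Surjective π := QuotientGroup.mk'_surjective Z
  have hQb : Nat.card G = 2 * Nat.card (G ⧸ Z) := by
    rw [Z.card_eq_card_quotient_mul_card_subgroup, hZc, mul_comm]
  -- the odd core of the quotient
  have hOb : Cfsg.oddCore (G ⧸ Z) = ⊥ := by
    haveI := H1.pPrimeCore_normal' 2 (G ⧸ Z)
    set L := (Cfsg.oddCore (G ⧸ Z)).comap π with hL
    haveI : L.Normal := by rw [hL]; infer_instance
    haveI := H1.pPrimeCore_normal' 2 L
    haveI : (Cfsg.pPrimeCore 2 L).Characteristic := H1.pPrimeCore_characteristic 2 L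
    have hLO : Cfsg.oddCore L = ⊥ := by
      have h2 := normal_odd_eq_bot hO (N := (Cfsg.pPrimeCore 2 L).map L.subtype) (by
        rw [card_map_of_injective L.subtype_injective]
        exact Nat.coprime_two_right.1 (H1.card_pPrimeCore_coprime 2 L))
      exact (map_eq_bot_iff_of_injective _ L.subtype_injective).1 h2
    have hLc : Nat.card L = 2 * Nat.card (Cfsg.oddCore (G ⧸ Z)) := by
      rw [hL, card_comap, hZc]
    have hodd : Odd (Nat.card (Cfsg.oddCore (G ⧸ Z))) :=
      Nat.coprime_two_right.1 (H1.card_pPrimeCore_coprime 2 (G ⧸ Z))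
    let T : Sylow 2 L := default
    have hTc : Nat.card (T : Subgroup L) = 2 := by
      rw [T.card_eq_multiplicity, hLc, Nat.factorization_mul two_ne_zero Nat.card_pos.ne',
        Finsupp.add_apply, Nat.Prime.factorization_self Nat.prime_two,
        Nat.factorization_eq_zero_of_not_dvd (Nat.two_dvd_ne_zero.2 (Nat.odd_iff.1 hodd))]
      rfl
    haveI : IsCyclic (T : Subgroup L) := isCyclic_of_prime_card (p := 2) hTc
    obtain ⟨k, hk⟩ := IsPGroup.iff_card.1 (isPGroup_of_cyclic T hLO).2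
    rw [hLc] at hk
    refine card_eq_one.1 (Nat.eq_one_of_dvd_coprimes ?_ (dvd_refl _) (Dvd.intro_left 2 hk))
    exact ((Nat.coprime_two_left.2 hodd).pow_left k).symm
  -- the Sylow subgroup of the quotient
  let S : Sylow 2 (G ⧸ Z) := Q.mapSurjective hπs
  have hS : (S : Subgroup (G ⧸ Z)) = (Q : Subgroup G).map π := rfl
  have hsq : ∀ s ∈ (S : Subgroup (G ⧸ Z)), s * s = 1 := by
    intro s hs
    rw [hS] at hs
    obtain ⟨w, hw, rfl⟩ := hs
    rw [← map_mul, hπ, QuotientGroup.mk'_apply, QuotientGroup.eq_one_iff]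
    by_cases h1 : w * w = 1
    · rw [h1]; exact one_mem _
    · rw [huniq (w * w) (mul_mem hw hw) ?_ h1]
      · exact mem_zpowers z
      · exact congrArg Subtype.val (e.injective (a₁ := (⟨w, hw⟩ * ⟨w, hw⟩) * (⟨w, hw⟩ * ⟨w, hw⟩))
          (a₂ := 1) (by rw [map_mul, map_mul, map_one]; exact q8_square _))
  have hS4 : Nat.card (S : Subgroup (G ⧸ Z)) = 4 := by
    rw [S.card_eq_multiplicity]
    have h1 := hQc
    rw [Q.card_eq_multiplicity, hQb, Nat.factorization_mul two_ne_zero Nat.card_pos.ne',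
      Finsupp.add_apply, Nat.Prime.factorization_self Nat.prime_two, pow_add, pow_one] at h1
    omega
  have helem : Elem S := ⟨hC.quotient Z, hsq⟩
  rcases helem.four hS4 hOb with h4 | h5
  · left
    obtain ⟨e4⟩ := h4
    refine sl23_of_twentyFour hall (e4.toMonoidHom.comp π) (e4.surjective.comp hπs) ?_
    rw [hQb, Nat.card_congr e4.toEquiv, card_alt_four]
  · right
    obtain ⟨e5⟩ := h5
    refine (Cfsg.Agent.S3378.result.1 G ?_ ?_ hall)
    · rw [hQb, Nat.card_congr e5.toEquiv, nat_card_alternatingGroup, Nat.card_fin]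
      rfl
    · intro hsol
      haveI := hsol
      haveI : Group.IsSolvable (alternatingGroup (Fin 5)) :=
        Group.isSolvable_of_surjective (f := e5.toMonoidHom.comp π) (e5.surjective.comp hπs)
      have h1 := IsSimpleGroup.comm_iff_isSolvable.2
        (inferInstance : Group.IsSolvable (alternatingGroup (Fin 5)))
      revert h1
      decide +kernel

end H1.EqConj
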